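import Cfsg.Agent.Lib.Invol.M12.Table

/-! Kernel checks of the table. -/

set_option autoImplicit false
set_option maxRecDepth 100000

namespace Cfsg.Agent.Invol.M12

theorem mT_check : mT.check = true := by decide +kernel

theorem mT_sep : ((List.range mT.N).all fun b => mT.sepOk mSep b) = true := by decide +kernel

end Cfsg.Agent.Invol.M12
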