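import Cfsg.Agent.Lib.Invol.M12.Gens
import Cfsg.Agent.Lib.Invol.M12.Check
import Cfsg.Agent.Lib.Invol.StronglyEmbeddedCount

/-! A group with the centraliser of M12 is determined up to isomorphism. -/

set_option autoImplicit false
set_option linter.unusedSectionVars false

universe u v

namespace Cfsg.Agent.Invol.M12

open Cfsg.Agent.Invol.HJ.Uniq (Tab)

theorem mT_ok : mT.Checked := mT.checked mT_check

/-- The permutation given by a generator. -/
def sigma (s : ℕ) : Equiv.Perm (Fin mT.N) :=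
  if hs : s < mT.n then
    { toFun := fun b => ⟨mT.tgt b (mT.iv s), mT_ok.lt b b.isLt _ (mT_ok.iv_lt s hs)⟩
      invFun := fun b => ⟨mT.tgt b s, mT_ok.lt b b.isLt _ hs⟩
      left_inv := fun b => Fin.ext (by
        have h2 : mT.iv (mT.iv s) = s := by
          have hs' : s < 9 := hs
          interval_cases s <;> rfl
        have := mT_ok.back b b.isLt _ (mT_ok.iv_lt s hs)
        rw [h2] at this
        exact this)
      right_inv := fun b => Fin.ext (mT_ok.back b b.isLt s hs) }
  else 1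

/-- The standard group. -/
def PM : Subgroup (Equiv.Perm (Fin mT.N)) := Subgroup.closure {p | ∃ s < mT.n, sigma s = p}

variable {G : Type u} [Group G] [Finite G]

/-- The generators generate. -/
theorem gen_top {h : Setting G} {g q : G} (d : GenData h g q) :
    Subgroup.closure {x | ∃ s < mT.n, gens h g q s = x} = ⊤ := by
  set S := Subgroup.closure {x | ∃ s < mT.n, gens h g q s = x} with hS
  have hCz : ∀ x : G, x * h.e zI = h.e zI * x → x ∈ S := fun x hx => by
    obtain ⟨i, hi, rfl⟩ := (h.cen x).1 hx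
    exact gen_z h g q hi
  have hgS : g ∈ S := Subgroup.subset_closure ⟨6, by decide, rfl⟩
  have hS0 : S0 h ≤ S := by
    rintro x ⟨i, hi, rfl⟩
    exact gen_z h g q (SI_lt hi)
  have hrep : ∀ t ∈ S, orderOf t = 2 → ∃ k ∈ S, k * t * k⁻¹ = h.e zI ∨ k * t * k⁻¹ = h.e wI := by
    intro t ht ht2
    obtain ⟨i, hi, hc, k, hk, hke⟩ := h.invol_conj_in hS0 ht2 ht
    have hil := SI_lt hi
    obtain ⟨h2, h3, h4⟩ := rep_spec hil
    have step : ∀ {a r : ℕ}, a < 192 → (∃ m < 192, cj m a = r) → ∀ c ∈ S, c * t * c⁻¹ = h.e a →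
        ∃ c' ∈ S, c' * t * c'⁻¹ = h.e r := by
      rintro a r ha ⟨m, hm, rfl⟩ c hc hce
      exact ⟨h.e m * c, mul_mem (gen_z h g q hm) hc, by
        rw [show h.e m * c * t * (h.e m * c)⁻¹ = h.e m * (c * t * c⁻¹) * (h.e m)⁻¹ by group, hce, h.conj_e hm ha]⟩
    have back : ∀ c ∈ S, c * t * c⁻¹ = h.e vI → ∃ c' ∈ S, c' * t * c'⁻¹ = h.e zI := fun c hc hce =>
      ⟨g⁻¹ * c, mul_mem (inv_mem hgS) hc, by
        rw [show g⁻¹ * c * t * (g⁻¹ * c)⁻¹ = g⁻¹ * (c * t * c⁻¹) * g by group, hce, ← d.gz]; group⟩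
    rcases hc with e | e | e | e
    · exact ⟨k, hk, Or.inl (by rw [hke, (cl_spec hil).2.2.1 e])⟩
    · obtain ⟨c, hc, hce⟩ := step hil (h2 e) k hk hke
      obtain ⟨c', hc', hce'⟩ := back c hc hce
      exact ⟨c', hc', Or.inl hce'⟩
    · obtain ⟨c, hc, hce⟩ := step hil (h3 e) k hk hke
      exact ⟨c, hc, Or.inr hce⟩
    · obtain ⟨c, hc, hce⟩ := step hil (h4 e) k hk hke
      have hce2 : g * c * t * (g * c)⁻¹ = h.e bwI := by
        rw [show g * c * t * (g * c)⁻¹ = g * (c * t * c⁻¹) * g⁻¹ by group, hce, d.go]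
      obtain ⟨c2, hc2, hce3⟩ := step (by decide) ((rep_spec (by decide : bwI < 192)).1
        consts_ok.2.2.2.2.2.2.1) (g * c) (mul_mem hgS hc) hce2
      obtain ⟨c', hc', hce'⟩ := back c2 hc2 hce3
      exact ⟨c', hc', Or.inl hce'⟩
  by_contra htop
  have hev : Even (Nat.card S) := by
    rw [even_iff_two_dvd]
    have hzS : h.e zI ∈ S := gen_z h g q const_lt.1
    have := Subgroup.orderOf_dvd_natCard S hzS
    rwa [h.ord_z] at this
  have hse : Cfsg.IsStronglyEmbedded S := by
    refine (Cfsg.Agent.Invol.isStronglyEmbedded_iff htop hev).2 fun t ht ht2 a ha => ?_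
    obtain ⟨k, hk, hke⟩ := hrep t ht ht2
    obtain ⟨k', hk', hke'⟩ := hrep _ ha (by
      have := orderOf_conj_eq a⁻¹ t
      rw [inv_inv] at this
      rw [this, ht2])
    have hmem : k * a * k'⁻¹ ∈ S → a ∈ S := fun e => by
      have := mul_mem (mul_mem (inv_mem hk) e) hk'
      rwa [show k⁻¹ * (k * a * k'⁻¹) * k' = a by group] at this
    refine hmem ?_
    have hr : ∀ r : G, k * t * k⁻¹ = r → k' * (a⁻¹ * t * a) * k'⁻¹ = r →
        k * a * k'⁻¹ * r = r * (k * a * k'⁻¹) := fun r e1 e2 => by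
      nth_rewrite 1 [← e2]
      rw [← e1]; group
    have hne : ¬ IsConj (h.e zI) (h.e wI) := fun e => h.w_not_conj e.symm
    have hmix : ∀ r r' : G, k * t * k⁻¹ = r → k' * (a⁻¹ * t * a) * k'⁻¹ = r' → IsConj r r' := fun r r' e1 e2 =>
      isConj_iff.2 ⟨k' * a⁻¹ * k⁻¹, by rw [← e1, ← e2]; group⟩
    rcases hke with e | e <;> rcases hke' with e' | e'
    · exact hCz _ (hr _ e e')
    · exact absurd (hmix _ _ e e') hne
    · exact absurd (hmix _ _ e e') h.w_not_conj
    · exact d.gen_w ((mem_CW h).2 (hr _ e e'))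
  exact h.w_not_conj (Cfsg.Agent.Invol.isConj_involutions hse (ord_w h) h.ord_z)

theorem ker_ok : ((List.range 192).any fun i => cl i == 3 && (List.range 192).any fun j => cl j == 3 && mL i j == zI) = true ∧
    ((List.range 192).all fun i => i == 0 || i == zI ||
      (List.range 192).any fun j => (cl j == 2 || cl j == 3) && !(com i j)) = true := by
  decide +kernel

/-- A normal subgroup in the centraliser of `w` is trivial. -/
theorem ker_trivial {h : Setting G} {g q : G} (d : GenData h g q) {M : Type*} [Group M] {Φ : G →* M} {n : G}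
    (hn : Φ n = 1) (hH : ∀ n, Φ n = 1 → n ∈ CW h) : n = 1 := by
  have hv : IsConj (h.e zI) (h.e vI) := isConj_iff.2 ⟨g, d.gz⟩
  have hc : ∀ m, Φ m = 1 → ∀ {i : ℕ}, i < 192 → cl i = 3 → m * h.e i = h.e i * m := fun m hm {i} hi hc => by
    obtain ⟨c, hce⟩ := isConj_iff.1 ((h.isConj_rep hi).2.2.1 hc)
    have h1 := (mem_CW h).1 (hH (c * m * c⁻¹) (by rw [map_mul, map_mul, hm, mul_one, map_inv, mul_inv_cancel]))
    rw [← hce] at h1
    calc m * h.e i = c⁻¹ * (c * m * c⁻¹ * (c * h.e i * c⁻¹)) * c := by group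
      _ = h.e i * m := by rw [h1]; group
  obtain ⟨h1, h2⟩ := ker_ok
  simp only [List.any_eq_true, List.all_eq_true, List.mem_range, Bool.and_eq_true, Bool.or_eq_true, beq_iff_eq,
    Bool.not_eq_true'] at h1 h2
  obtain ⟨a, ha, hac, b, hb, hbc, hab⟩ := h1
  have hz : ∀ m, Φ m = 1 → m * h.e zI = h.e zI * m := fun m hm => by
    rw [← hab, h.mul a ha b hb, ← mul_assoc, hc m hm ha hac, mul_assoc, hc m hm hb hbc, mul_assoc]
  have hc2 : ∀ m, Φ m = 1 → ∀ {i : ℕ}, i < 192 → cl i = 2 → m * h.e i = h.e i * m := fun m hm {i} hi hc => by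
    obtain ⟨c, hce⟩ := isConj_iff.1 (((h.isConj_rep hi).2.1 hc).trans hv.symm)
    have h1 := hz (c * m * c⁻¹) (by rw [map_mul, map_mul, hm, mul_one, map_inv, mul_inv_cancel])
    rw [← hce] at h1
    calc m * h.e i = c⁻¹ * (c * m * c⁻¹ * (c * h.e i * c⁻¹)) * c := by group
      _ = h.e i * m := by rw [h1]; group
  have key : ∀ m, Φ m = 1 → m = 1 ∨ m = h.e zI := fun m hm => by
    obtain ⟨i, hi, hie⟩ := h.mem_cent (hz m hm)
    rcases h2 i hi with (e | e) | ⟨j, hj, hjc, hij⟩
    · left; rw [← hie, e, h.e_zero]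
    · right; rw [← hie, e]
    · exfalso
      rw [← hie] at hm
      have hcom := (h.com_iff hi hj).1 (hjc.elim (fun e => hc2 _ hm hj e) (fun e => hc _ hm hj e))
      rw [hcom] at hij
      exact Bool.noConfusion hij
  refine (key n hn).resolve_right fun e => ?_
  obtain ⟨c, hce⟩ := isConj_iff.1 hv
  rcases key (h.e vI) (by rw [← hce, map_mul, map_mul, ← e, hn, mul_one, map_inv, mul_inv_cancel]) with e' | e'
  · exact absurd ((h.e_eq_one const_lt.2.1).1 e') (by decide)
  · exact absurd (h.inj _ const_lt.2.1 _ const_lt.1 e') (by decide)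

/-- A group with the centraliser of M12 is the standard permutation group. -/
theorem iso_of_fused (h0 : Setting G) (hv : IsConj (h0.e zI) (h0.e vI)) (ho : IsConj (h0.e zI) (h0.e oI)) :
    Nonempty (G ≃* PM) := by
  classical
  obtain ⟨h, g, q, d⟩ := h0.exists_genData hv ho
  have hgen := gen_top d
  set ge := gens h g q with hge
  set H := CW h with hH
  have hy : ge 0 ∉ H := fun e => by
    have e1 : h.e yI * h.e wI = h.e wI * h.e yI := (mem_CW h).1 e
    have e2 := h.conj_e (k := yI) (i := wI) (by decide) (by decide)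
    rw [rels_facts.2.2.2.2.2.2.2.2.2.2.1, e1, mul_inv_cancel_right] at e2
    exact absurd (h.inj _ (by decide) _ (by decide) e2) (by decide)
  have hall := mT.holds_all ge mT_ok d.inv d.rels d.sub
  have hinjc := Tab.sep_inj mT_ok (S := mSep)
    (fun b hb => List.all_eq_true.1 mT_sep b (List.mem_range.2 hb)) hall hy
  let f : Fin mT.N → G ⧸ H := fun b => QuotientGroup.mk (mT.rep ge b)⁻¹
  have hfinj : Function.Injective f := fun a b e => by
    refine Fin.ext (hinjc a a.isLt b b.isLt ?_)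
    have := QuotientGroup.eq.1 e
    rw [inv_inv] at this
    exact this
  have hstep : ∀ s < mT.n, ∀ b : Fin mT.N, ∃ b', ge s • f b = f b' := by
    intro s hs b
    have his := mT_ok.iv_lt s hs
    have hgi : (ge s)⁻¹ = ge (mT.iv s) := inv_eq_of_mul_eq_one_right (d.inv s hs)
    refine ⟨⟨mT.tgt b (mT.iv s), mT_ok.lt b b.isLt _ his⟩, ?_⟩
    show QuotientGroup.mk (ge s * (mT.rep ge b)⁻¹) = QuotientGroup.mk (mT.rep ge (mT.tgt b (mT.iv s)))⁻¹
    rw [QuotientGroup.eq, mul_inv_rev, inv_inv, hgi]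
    exact hall b b.isLt _ his
  have hfbij : Function.Bijective f := by
    refine ⟨hfinj, fun c => ?_⟩
    induction c using QuotientGroup.induction_on with
    | H x =>
      have hx : x ∈ Subgroup.closure {y | ∃ s < mT.n, ge s = y} := hgen ▸ Subgroup.mem_top x
      have key : ∀ b, ∃ b', x • f b = f b' := by
        induction hx using Subgroup.closure_induction with
        | mem y hy =>
          obtain ⟨s, hs, rfl⟩ := hy
          exact hstep s hs
        | one => exact fun b => ⟨b, one_smul _ _⟩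
        | mul y z _ _ iy iz =>
          intro b
          obtain ⟨b1, e1⟩ := iz b
          obtain ⟨b2, e2⟩ := iy b1
          exact ⟨b2, by rw [mul_smul, e1, e2]⟩
        | inv y _ iy =>
          choose π hπ using iy
          have hi : Function.Injective π := fun a b e => hfinj (smul_left_cancel y ((hπ a).trans (e ▸ (hπ b).symm)))
          intro b
          obtain ⟨a, ha⟩ := (Finite.injective_iff_surjective.1 hi) b
          exact ⟨a, by rw [← ha, ← hπ a, inv_smul_smul]⟩
      obtain ⟨b', hb'⟩ := key ⟨0, mT_ok.pos⟩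
      refine ⟨b', ?_⟩
      rw [← hb']
      show x • (QuotientGroup.mk (mT.rep ge 0)⁻¹ : G ⧸ H) = _
      rw [mT.rep_zero, inv_one, MulAction.Quotient.smul_coe, smul_eq_mul, mul_one]
  let e := Equiv.ofBijective f hfbij
  let Φ : G →* Equiv.Perm (Fin mT.N) :=
    e.symm.permCongrHom.toMonoidHom.comp (MulAction.toPermHom G (G ⧸ H))
  have hΦ : ∀ s < mT.n, Φ (ge s) = sigma s := by
    intro s hs
    have his := mT_ok.iv_lt s hs
    have hgi : (ge s)⁻¹ = ge (mT.iv s) := inv_eq_of_mul_eq_one_right (d.inv s hs)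
    ext b
    have ht := mT_ok.lt b b.isLt _ his
    have h1 : ge s • f b = f ⟨mT.tgt b (mT.iv s), ht⟩ := by
      show QuotientGroup.mk (ge s * (mT.rep ge b)⁻¹) = QuotientGroup.mk (mT.rep ge (mT.tgt b (mT.iv s)))⁻¹
      rw [QuotientGroup.eq, mul_inv_rev, inv_inv, hgi]
      exact hall b b.isLt _ his
    have h2 : Φ (ge s) b = ⟨mT.tgt b (mT.iv s), ht⟩ := by
      show e.symm (ge s • e b) = _
      rw [Equiv.symm_apply_eq]
      exact h1
    rw [h2]
    simp [sigma, hs]
  have hΦinj : Function.Injective Φ := by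
    refine (injective_iff_map_eq_one Φ).2 fun n hn => ker_trivial d hn ?_
    intro n hn
    have hb := congrArg (fun p : Equiv.Perm (Fin mT.N) => p (e.symm ((1 : G) : G ⧸ H))) hn
    have h1 : e.symm (n • e (e.symm ((1 : G) : G ⧸ H))) = e.symm ((1 : G) : G ⧸ H) := hb
    rw [Equiv.apply_symm_apply, e.symm.injective.eq_iff, MulAction.Quotient.smul_coe, smul_eq_mul,
      mul_one, QuotientGroup.eq, mul_one, inv_mem_iff] at h1
    exact h1
  have hrange : Φ.range = PM := by
    rw [MonoidHom.range_eq_map, ← hgen, MonoidHom.map_closure, PM]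
    congr 1
    ext p
    constructor
    · rintro ⟨x, ⟨s, hs, rfl⟩, rfl⟩; exact ⟨s, hs, (hΦ s hs).symm⟩
    · rintro ⟨s, hs, rfl⟩; exact ⟨ge s, ⟨s, hs, rfl⟩, hΦ s hs⟩
  exact ⟨(MonoidHom.ofInjective hΦinj).trans (MulEquiv.subgroupCongr hrange)⟩

theorem iso_standard [IsSimpleGroup G] (h0 : Setting G) (hna : ¬ IsMulCommutative G) : Nonempty (G ≃* PM) :=
  iso_of_fused h0 (h0.v_conj hna) (h0.o_conj hna)

/-- Two such groups are isomorphic. -/
theorem iso [IsSimpleGroup G] {K : Type v} [Group K] [Finite K] [IsSimpleGroup K] (h : Setting G) (hG : ¬ IsMulCommutative G)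
    (h' : Setting K) (hK : ¬ IsMulCommutative K) : Nonempty (G ≃* K) := by
  obtain ⟨a⟩ := iso_standard h hG
  obtain ⟨b⟩ := iso_standard h' hK
  exact ⟨a.trans b.symm⟩

end Cfsg.Agent.Invol.M12
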