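import Cfsg.Agent.Lib.Invol.M12.M12Side
import Cfsg.Agent.Lib.Invol.M12.Iso

/-! Recognition of M12 by the centraliser of a central involution. -/

set_option autoImplicit false
set_option linter.unusedSectionVars false

noncomputable section

namespace Cfsg.Agent.Invol.M12

variable {G : Type*} [Group G]

/-- The setting given by an isomorphism of centralisers. -/
theorem exists_setting {t : G} (ht : orderOf t = 2)
    (f : ↥(Subgroup.centralizer ({t} : Set G)) ≃* ↥(Subgroup.centralizer ({mE zI} : Set ↥Cfsg.Spor.M12))) :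
    Nonempty (Setting G) := by
  classical
  have hmem : ∀ {i : ℕ}, i < 192 → mE i ∈ Subgroup.centralizer ({mE zI} : Set ↥Cfsg.Spor.M12) := fun {i} hi =>
    Subgroup.mem_centralizer_singleton_iff.2 (settingM12.e_comm_z hi)
  let ee : ℕ → G := fun i => if hi : i < 192 then (f.symm ⟨mE i, hmem hi⟩ : G) else 1
  have hee : ∀ {i : ℕ} (hi : i < 192), ee i = (f.symm ⟨mE i, hmem hi⟩ : G) := fun {i} hi => dif_pos hi
  set tC : ↥(Subgroup.centralizer ({t} : Set G)) := ⟨t, Subgroup.mem_centralizer_singleton_iff.2 rfl⟩ with htC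
  obtain ⟨i, hi, hie⟩ := (settingM12.cen (f tC : ↥Cfsg.Spor.M12)).1
    (Subgroup.mem_centralizer_singleton_iff.1 (f tC).2)
  have hcom : (List.range 192).all (com i) = true := List.all_eq_true.2 fun j hj => by
    have hjl := List.mem_range.1 hj
    rw [← settingM12.com_iff hi hjl, hie]
    have h1 : tC * f.symm ⟨mE j, hmem hjl⟩ = f.symm ⟨mE j, hmem hjl⟩ * tC :=
      Subtype.ext (Subgroup.mem_centralizer_singleton_iff.1 (f.symm ⟨mE j, hmem hjl⟩).2).symm
    have h2 := congrArg f h1
    rw [map_mul, map_mul, f.apply_symm_apply] at h2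
    exact congrArg Subtype.val h2
  have hiz : i = zI := by
    have hc := center_ok
    simp only [List.all_eq_true, List.mem_range, Bool.or_eq_true, Bool.not_eq_true', beq_iff_eq] at hc
    rcases hc i hi with (e | e) | e
    · exact absurd hcom (by simp [e])
    · exfalso
      rw [e, settingM12.e_zero, eq_comm] at hie
      have : f tC = 1 := Subtype.ext hie
      rw [f.map_eq_one_iff] at this
      have ht1 : t = 1 := congrArg Subtype.val this
      rw [ht1, orderOf_one] at ht
      omega
    · exact e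
  subst hiz
  have hft : f tC = ⟨mE zI, hmem hi⟩ := Subtype.ext hie.symm
  refine ⟨{ e := ee, inj := ?_, mul := ?_, cen := ?_ }⟩
  · intro a ha b hb e
    rw [hee ha, hee hb] at e
    exact mE_inj a ha b hb (congrArg Subtype.val (f.symm.injective (Subtype.ext e)))
  · intro a ha b hb
    rw [hee ha, hee hb, hee (mL_lt ha hb), ← Subgroup.coe_mul, ← map_mul]
    exact congrArg (fun q => ((f.symm q : ↥(Subgroup.centralizer ({t} : Set G))) : G))
      (Subtype.ext (mE_mul a ha b hb))
  · intro x
    have hz : ee zI = t := by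
      rw [hee const_lt.1, ← hft, f.symm_apply_apply]
    rw [hz]
    constructor
    · intro hx
      obtain ⟨a, ha, hae⟩ := (settingM12.cen (f ⟨x, Subgroup.mem_centralizer_singleton_iff.2 hx⟩ : ↥Cfsg.Spor.M12)).1
        (Subgroup.mem_centralizer_singleton_iff.1 (f ⟨x, Subgroup.mem_centralizer_singleton_iff.2 hx⟩).2)
      refine ⟨a, ha, ?_⟩
      rw [hee ha, show (⟨mE a, hmem ha⟩ : ↥(Subgroup.centralizer ({mE zI} : Set ↥Cfsg.Spor.M12))) =
        f ⟨x, Subgroup.mem_centralizer_singleton_iff.2 hx⟩ from Subtype.ext hae, f.symm_apply_apply]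
    · rintro ⟨a, ha, rfl⟩
      rw [hee ha]
      exact Subgroup.mem_centralizer_singleton_iff.1 (f.symm ⟨mE a, hmem ha⟩).2

/-- A simple group with the centraliser of M12 is M12. -/
theorem isoM12 [Finite G] [IsSimpleGroup G] (hG : ¬ IsMulCommutative G) {u : ↥Cfsg.Spor.M12}
    (hu : Cfsg.IsTwoCentralInvolution u) {t : G} (ht : orderOf t = 2)
    (e : ↥(Subgroup.centralizer ({t} : Set G)) ≃* ↥(Subgroup.centralizer ({u} : Set ↥Cfsg.Spor.M12))) :
    Cfsg.Spor.IsoM12 G := by
  obtain ⟨c, hc⟩ := isConj_iff.1 (two_central_conj hu)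
  let φ : ↥(Subgroup.centralizer ({u} : Set ↥Cfsg.Spor.M12)) ≃* ↥(Subgroup.centralizer ({mE zI} : Set ↥Cfsg.Spor.M12)) :=
    { toFun := fun x => ⟨c * x.1 * c⁻¹, Subgroup.mem_centralizer_singleton_iff.2 (by
        rw [← hc, ← conj_mul', ← conj_mul', Subgroup.mem_centralizer_singleton_iff.1 x.2])⟩
      invFun := fun x => ⟨c⁻¹ * x.1 * c, Subgroup.mem_centralizer_singleton_iff.2 (by
        have h1 : x.1 * (c * u * c⁻¹) = c * u * c⁻¹ * x.1 := hc.symm ▸ Subgroup.mem_centralizer_singleton_iff.1 x.2
        calc c⁻¹ * x.1 * c * u = c⁻¹ * (x.1 * (c * u * c⁻¹)) * c := by group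
          _ = u * (c⁻¹ * x.1 * c) := by rw [h1]; group)⟩
      left_inv := fun x => Subtype.ext (by group)
      right_inv := fun x => Subtype.ext (by group)
      map_mul' := fun x y => Subtype.ext (by simp only [Subgroup.coe_mul]; group) }
  obtain ⟨h⟩ := exists_setting ht (e.trans φ)
  haveI := simple12
  exact iso h hG settingM12 noncomm12

end Cfsg.Agent.Invol.M12
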