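import Cfsg.Agent.Lib.Invol.M12.Count

/-! The Sylow subgroup of the centraliser of `w`. -/

set_option autoImplicit false
set_option linter.unusedSectionVars false
set_option linter.style.haveILetI false

namespace Cfsg.Agent.Invol.M12

variable {G : Type*} [Group G] (h : Setting G)

/-- the common centraliser of `z` and `w` -/
abbrev RW : Subgroup G := Subgroup.centralizer ({h.e zI} : Set G) ⊓ Subgroup.centralizer ({h.e wI} : Set G)

/-- the centraliser of `w` -/
abbrev CW : Subgroup G := Subgroup.centralizer ({h.e wI} : Set G)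

theorem RI_lt : ∀ i ∈ RI, i < 192 := by decide

theorem mem_CW {x : G} : x ∈ CW h ↔ x * h.e wI = h.e wI * x := Subgroup.mem_centralizer_singleton_iff

theorem mem_RW {x : G} : x ∈ RW h ↔ ∃ i ∈ RI, h.e i = x := by
  obtain ⟨hR, -⟩ := cent_w_ok
  simp only [List.all_eq_true, List.mem_range, beq_iff_eq, List.contains_eq_mem] at hR
  rw [Subgroup.mem_inf, Subgroup.mem_centralizer_singleton_iff, Subgroup.mem_centralizer_singleton_iff]
  constructor
  · rintro ⟨hz, hw⟩
    obtain ⟨i, hi, rfl⟩ := h.mem_cent hz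
    have := hR i hi
    rw [(h.com_iff hi const_lt.2.2.2.1).1 hw] at this
    exact ⟨i, by simpa using this, rfl⟩
  · rintro ⟨i, hi, rfl⟩
    have hl := RI_lt i hi
    exact ⟨h.e_comm_z hl, (h.com_iff hl const_lt.2.2.2.1).2 (by have := hR i hl; simpa [hi] using this.symm)⟩

theorem card_RW : Nat.card (RW h) = 16 := by
  obtain ⟨-, hl, hn, -⟩ := cent_w_ok
  rw [← SetLike.coe_sort_coe, h.card_image (l := RI) RI_lt hn (A := ((RW h : Subgroup G) : Set G))
    fun x => mem_RW h, hl]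

theorem RW_le : RW h ≤ CW h := inf_le_right

theorem isPGroup_RW : IsPGroup 2 (RW h) := IsPGroup.of_card (n := 4) (by rw [card_RW]; norm_num)

theorem ord_w : orderOf (h.e wI) = 2 :=
  (h.sq_iff const_lt.2.2.2.1).2 (Or.inr (Or.inr (Or.inl consts_ok.2.2.2.1)))

theorem w_sq : h.e wI * h.e wI = 1 := (Cfsg.Agent.Invol.orderOf_two_iff.1 (ord_w h)).1

variable [Finite G]

/-- A 2-group centralising `w` has at most 16 elements. -/
theorem two_bound (hv : IsConj (h.e zI) (h.e vI)) {T : Subgroup G} (hT : IsPGroup 2 T) (hle : T ≤ CW h) :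
    Nat.card T ≤ 16 := by
  haveI : Fact (Nat.Prime 2) := ⟨Nat.prime_two⟩
  have hW : IsPGroup 2 (Subgroup.zpowers (h.e wI)) :=
    IsPGroup.of_card (n := 1) (by rw [Nat.card_zpowers, ord_w, pow_one])
  have hn : T ≤ Subgroup.normalizer (Subgroup.zpowers (h.e wI) : Set G) := fun t ht => by
    have hc : Commute t (h.e wI) := (mem_CW h).1 (hle ht)
    refine Subgroup.mem_normalizer_iff.2 fun y => ⟨?_, ?_⟩
    · rintro ⟨n, rfl⟩; exact ⟨n, by rw [(hc.zpow_right n).eq, mul_inv_cancel_right]⟩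
    · rintro ⟨n, hn⟩
      refine ⟨n, ?_⟩
      calc h.e wI ^ n = t⁻¹ * (t * h.e wI ^ n) := by group
        _ = t⁻¹ * (t * y * t⁻¹ * t) := by rw [(hc.zpow_right n).eq]; simp only at hn; rw [hn]
        _ = y := by group
  obtain ⟨Q, hQ⟩ := (hT.to_sup_of_normal_right' hW hn).exists_le_sylow
  obtain ⟨P, hP⟩ := h.S0_sylow
  obtain ⟨c, hc⟩ := MulAction.exists_smul_eq G Q P
  have hmem : ∀ t ∈ T ⊔ Subgroup.zpowers (h.e wI), ∃ i ∈ SI, h.e i = c * t * c⁻¹ := fun t ht => by
    have : c * t * c⁻¹ ∈ (P : Subgroup G) := by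
      rw [← hc, Sylow.coe_subgroup_smul]; exact ⟨t, hQ ht, rfl⟩
    rw [hP] at this
    exact this
  obtain ⟨j, hj, hje⟩ := hmem _ (le_sup_right (α := Subgroup G) (Subgroup.mem_zpowers _))
  have hconj : IsConj (h.e wI) (h.e j) := isConj_iff.2 ⟨c, hje.symm⟩
  have hjl := SI_lt hj
  have hj34 : (isW true (cl j) || isW false (cl j)) = true := by
    obtain ⟨r1, r2, r3, r4⟩ := h.isConj_rep hjl
    rcases (h.sq_iff hjl).1 (by rw [hje, orderOf_conj_eq, ord_w]) with e | e | e | e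
    · exact absurd (r1 e ▸ hconj) h.w_not_conj
    · exact absurd ((hconj.trans (r2 e)).trans hv.symm) h.w_not_conj
    · simp [isW, e]
    · simp [isW, e]
  have hcnt : SI.countP (com j) ≤ 16 := by
    have := sylow_ok.2.2.2.2.2
    simp only [List.all_eq_true, Bool.or_eq_true, Bool.not_eq_true', decide_eq_true_eq] at this
    exact (this j hj).resolve_left (by simp [hj34])
  refine le_trans ?_ hcnt
  rw [List.countP_eq_length_filter, ← h.card_image (l := SI.filter (com j))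
    (fun i hi => SI_lt (List.mem_filter.1 hi).1) (sylow_ok.2.2.1.filter _)
    (A := {x | ∃ i ∈ SI.filter (com j), h.e i = x}) fun x => Iff.rfl]
  refine Nat.card_le_card_of_injective (fun t => ⟨c * (t : G) * c⁻¹, ?_⟩) fun a b e => Subtype.ext (by
    simpa using e)
  obtain ⟨i, hi, hie⟩ := hmem t (le_sup_left (α := Subgroup G) t.2)
  refine ⟨i, List.mem_filter.2 ⟨hi, (h.com_iff hjl (SI_lt hi)).1 ?_⟩, hie⟩
  rw [hje, hie, ← conj_mul', ← conj_mul', (mem_CW h).1 (hle t.2)]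

/-- The Sylow subgroup of a subgroup of `C(w)` containing `RW`. -/
theorem RW_sylow (hv : IsConj (h.e zI) (h.e vI)) :
    ∃ P : Sylow 2 (CW h), (P : Subgroup (CW h)) = (RW h).subgroupOf (CW h) := by
  haveI : Fact (Nat.Prime 2) := ⟨Nat.prime_two⟩
  obtain ⟨P, hP⟩ := ((isPGroup_RW h).of_equiv (Subgroup.subgroupOfEquivOfLe (RW_le h)).symm).exists_le_sylow
  refine ⟨P, (Subgroup.eq_of_le_of_card_ge hP ?_).symm⟩
  have h1 := two_bound h hv (T := (P : Subgroup (CW h)).map (CW h).subtype) (P.2.map _) (Subgroup.map_subtype_le _)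
  rw [Nat.card_congr ((P : Subgroup (CW h)).equivMapOfInjective _ Subtype.coe_injective).symm.toEquiv] at h1
  rwa [Nat.card_congr (Subgroup.subgroupOfEquivOfLe (RW_le h)).toEquiv, card_RW]

omit h in
/-- A fixed-point-free involution on a group of odd order inverts it. -/
theorem inverts {N : Subgroup G} {u : G} (hu : u * u = 1) (hN : ∀ n ∈ N, u * n * u⁻¹ ∈ N)
    (hodd : Odd (Nat.card N)) (hf : ∀ n ∈ N, u * n * u⁻¹ = n → n = 1) : ∀ n ∈ N, u * n * u⁻¹ = n⁻¹ := by
  let φ : N → N := fun n => ⟨(n : G)⁻¹ * (u * n * u⁻¹), mul_mem (inv_mem n.2) (hN _ n.2)⟩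
  have hφ : Function.Injective φ := by
    intro a b e
    have e' : (a : G)⁻¹ * (u * a * u⁻¹) = (b : G)⁻¹ * (u * b * u⁻¹) := congrArg Subtype.val e
    have := hf _ (mul_mem b.2 (inv_mem a.2)) (by
      calc u * ((b : G) * (a : G)⁻¹) * u⁻¹ = (u * b * u⁻¹) * ((a : G)⁻¹ * (u * a * u⁻¹))⁻¹ * (a : G)⁻¹ := by group
        _ = (b : G) * (a : G)⁻¹ := by rw [e']; group)
    exact Subtype.ext (mul_inv_eq_one.1 this).symm
  intro n hn
  obtain ⟨m, hm⟩ := (Finite.injective_iff_surjective.1 hφ) ⟨n, hn⟩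
  have hm' : (m : G)⁻¹ * (u * m * u⁻¹) = n := congrArg Subtype.val hm
  have hu' : u⁻¹ = u := inv_eq_of_mul_eq_one_right hu
  rw [← hm', hu']
  calc u * ((m : G)⁻¹ * (u * m * u)) * u = (u * (m : G)⁻¹ * u) * m * (u * u) := by group
    _ = ((m : G)⁻¹ * (u * m * u))⁻¹ := by
      rw [hu, mul_one]
      calc u * (m : G)⁻¹ * u * m = (u⁻¹ * (m : G)⁻¹ * u⁻¹) * m := by rw [hu']
        _ = _ := by group

end Cfsg.Agent.Invol.M12
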