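import Cfsg.Agent.Lib.Invol.M12.Local
import Cfsg.Agent.S0111

/-! Subgroups of index two cut out by transfer. -/

set_option autoImplicit false
set_option linter.unusedSectionVars false
set_option linter.style.haveILetI false

namespace Cfsg.Agent.Invol.M12

variable {G : Type*} [Group G]

/-- A subgroup `M` of index two of `K`, avoiding `u`. -/
structure Half (K M : Subgroup G) (u : G) : Prop where
  le : M ≤ K
  norm : ∀ x ∈ K, ∀ y ∈ M, x * y * x⁻¹ ∈ M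
  umem : u ∈ K
  u_not : u ∉ M
  mul_iff : ∀ x ∈ K, ∀ y ∈ K, (x * y ∈ M ↔ (x ∈ M ↔ y ∈ M))

theorem Half.mul_self {K M : Subgroup G} {u : G} (hM : Half K M u) {x : G} (hx : x ∈ K) : x * x ∈ M :=
  (hM.mul_iff x hx x hx).2 Iff.rfl

theorem Half.cube {K M : Subgroup G} {u : G} (hM : Half K M u) {x : G} (hx : x ∈ K) (h3 : x * x * x = 1) :
    x ∈ M := by
  have := hM.mul_self (mul_mem hx hx)
  rwa [show x * x * (x * x) = x * x * x * x by group, h3, one_mul] at this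

theorem Half.card_eq [Finite G] {K M : Subgroup G} {u : G} (hM : Half K M u) {A : Subgroup G} (hA : A ≤ K)
    (hu : u ∈ A) : Nat.card A = 2 * Nat.card (A ⊓ M : Subgroup G) := by
  classical
  have hmem : ∀ x : A, x.1 ∉ M → u * x.1 ∈ M := fun x hx =>
    (hM.mul_iff u (hA hu) x (hA x.2)).2 ⟨fun e => absurd e hM.u_not, fun e => absurd e hx⟩
  have hnot : ∀ x ∈ (A ⊓ M : Subgroup G), u * x ∉ M := fun x hx e => by
    have := M.mul_mem e (M.inv_mem (Subgroup.mem_inf.1 hx).2)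
    rw [mul_inv_cancel_right] at this
    exact hM.u_not this
  rw [← Nat.card_eq_two_iff.2 ⟨true, false, by simp, by ext b; cases b <;> simp⟩, ← Nat.card_prod]
  refine (Nat.card_congr (Equiv.ofBijective
    (fun p : Bool × (A ⊓ M : Subgroup G) => (if p.1 then ⟨u * p.2.1, A.mul_mem hu (Subgroup.mem_inf.1 p.2.2).1⟩
      else ⟨p.2.1, (Subgroup.mem_inf.1 p.2.2).1⟩ : A)) ⟨?_, ?_⟩)).symm
  · rintro ⟨a, x⟩ ⟨b, y⟩ e
    have e' := congrArg Subtype.val e
    cases a <;> cases b <;> simp only [Bool.false_eq_true, if_false, if_true] at e'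
    · exact Prod.ext rfl (Subtype.ext e')
    · exact absurd (e' ▸ (Subgroup.mem_inf.1 x.2).2) (hnot _ y.2)
    · exact absurd (e'.symm ▸ (Subgroup.mem_inf.1 y.2).2) (hnot _ x.2)
    · exact Prod.ext rfl (Subtype.ext (mul_left_cancel e'))
  · intro x
    by_cases hx : x.1 ∈ M
    · exact ⟨(false, ⟨x.1, Subgroup.mem_inf.2 ⟨x.2, hx⟩⟩), by simp⟩
    · refine ⟨(true, ⟨u⁻¹ * x.1, Subgroup.mem_inf.2 ⟨A.mul_mem (A.inv_mem hu) x.2, ?_⟩⟩), Subtype.ext (by simp)⟩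
      refine (hM.mul_iff u⁻¹ (hA (A.inv_mem hu)) x (hA x.2)).2 ⟨fun e => absurd (inv_mem e) ?_, fun e => absurd e hx⟩
      rw [inv_inv]; exact hM.u_not

theorem Half.card_top [Finite G] {K M : Subgroup G} {u : G} (hM : Half K M u) :
    Nat.card K = 2 * Nat.card M := by
  rw [hM.card_eq le_rfl hM.umem, inf_eq_right.2 hM.le]

/-- A 2-subgroup of odd index is a Sylow subgroup. -/
theorem sylow_of [Finite G] {K R : Subgroup G} (hle : R ≤ K) {n m : ℕ} (hR : Nat.card R = 2 ^ n)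
    (hK : Nat.card K = Nat.card R * m) (hm : Odd m) : ∃ P : Sylow 2 K, (P : Subgroup K) = R.subgroupOf K := by
  haveI : Fact (Nat.Prime 2) := ⟨Nat.prime_two⟩
  have hc : Nat.card (R.subgroupOf K) = Nat.card R := Nat.card_congr (Subgroup.subgroupOfEquivOfLe hle).toEquiv
  have hp : IsPGroup 2 (R.subgroupOf K) := IsPGroup.of_card (n := n) (hc.trans hR)
  have hi : (R.subgroupOf K).index = m := by
    have := (R.subgroupOf K).card_mul_index
    rw [hc, hK] at this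
    exact Nat.eq_of_mul_eq_mul_left Nat.card_pos this
  exact ⟨hp.toSylow (by rw [hi]; obtain ⟨a, ha⟩ := hm; omega), rfl⟩

/-- Transfer inside a subgroup. -/
theorem exists_half [Finite G] {K R Q : Subgroup G} {u : G} (P : Sylow 2 K)
    (hP : (P : Subgroup K) = R.subgroupOf K) (hR : R ≤ K) (hQ : Q ≤ R) (hcard : Nat.card R = 2 * Nat.card Q)
    (hu : orderOf u = 2) (huR : u ∈ R) (huQ : u ∉ Q) (hconj : ∀ k ∈ K, k * u * k⁻¹ ∉ Q) :
    ∃ M : Subgroup G, Half K M u := by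
  have hle : Q.subgroupOf K ≤ (P : Subgroup K) := hP ▸ fun x hx => hQ hx
  have hrel : (Q.subgroupOf K).relIndex (P : Subgroup K) = 2 := by
    rw [hP, Subgroup.relIndex_subgroupOf hR]
    have := ((Q.subgroupOf R)).card_mul_index
    rw [Nat.card_congr (Subgroup.subgroupOfEquivOfLe hQ).toEquiv, hcard] at this
    rw [Subgroup.relIndex]
    exact Nat.eq_of_mul_eq_mul_left Nat.card_pos (this.trans (mul_comm _ _))
  obtain ⟨M, hMn, hMi, huM⟩ | ⟨k, hk⟩ := Cfsg.Agent.S0111.result P (Q.subgroupOf K) hle hrel ⟨u, hR huR⟩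
    (by rw [← Subgroup.orderOf_coe]; exact hu) (by
      show (⟨u, hR huR⟩ : K) ∈ (P : Subgroup K)
      rw [hP]; exact huR) huQ
  · refine ⟨M.map K.subtype, Subgroup.map_subtype_le _, ?_, hR huR, ?_, ?_⟩
    · rintro x hx _ ⟨y, hy, rfl⟩
      exact ⟨_, hMn.conj_mem y hy ⟨x, hx⟩, rfl⟩
    · rintro ⟨y, hy, e⟩
      exact huM ((show y = ⟨u, hR huR⟩ from Subtype.ext e) ▸ hy)
    · intro x hx y hy
      have hmem : ∀ {a : G} (ha : a ∈ K), a ∈ M.map K.subtype ↔ (⟨a, ha⟩ : K) ∈ M := fun {a} ha =>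
        ⟨fun ⟨b, hb, e⟩ => (show b = ⟨a, ha⟩ from Subtype.ext e) ▸ hb, fun e => ⟨_, e, rfl⟩⟩
      rw [hmem (mul_mem hx hy), hmem hx, hmem hy]
      exact Subgroup.mul_mem_iff_of_index_two hMi (a := ⟨x, hx⟩) (b := ⟨y, hy⟩)
  · exact absurd hk (hconj k k.2)

/-- The subgroup with the given elements of the table. -/
def listSub (h : Setting G) (l : List ℕ) (hl : ∀ i ∈ l, i < 192) (h0 : 0 ∈ l)
    (hc : ∀ i ∈ l, ∀ j ∈ l, mL i (iL j) ∈ l) : Subgroup G :=
  Subgroup.ofDiv {x | ∃ i ∈ l, h.e i = x} ⟨1, 0, h0, h.e_zero⟩ (by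
    rintro _ ⟨i, hi, rfl⟩ _ ⟨j, hj, rfl⟩
    exact ⟨_, hc i hi j hj, by rw [h.mul i (hl i hi) _ (iL_spec (hl j hj)).1, h.e_inv (hl j hj)]⟩)

theorem mem_listSub (h : Setting G) (l : List ℕ) (hl : ∀ i ∈ l, i < 192) (h0 : 0 ∈ l)
    (hc : ∀ i ∈ l, ∀ j ∈ l, mL i (iL j) ∈ l) {x : G} : x ∈ listSub h l hl h0 hc ↔ ∃ i ∈ l, h.e i = x := Iff.rfl

theorem card_listSub (h : Setting G) (l : List ℕ) (hl : ∀ i ∈ l, i < 192) (h0 : 0 ∈ l)
    (hc : ∀ i ∈ l, ∀ j ∈ l, mL i (iL j) ∈ l) (hn : l.Nodup) : Nat.card (listSub h l hl h0 hc) = l.length := by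
  rw [← SetLike.coe_sort_coe]
  exact h.card_image hl hn fun x => Iff.rfl

end Cfsg.Agent.Invol.M12
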