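import Cfsg.Agent.Lib.Invol.M12.Fusion
import Cfsg.Agent.S3313

/-! The two classes of involutions and the number of pairs. -/

set_option autoImplicit false
set_option linter.unusedSectionVars false
set_option linter.style.haveILetI false

namespace Cfsg.Agent.Invol.M12

variable {G : Type*} [Group G] (h : Setting G)

theorem e_pw {i : ℕ} (hi : i < 192) : ∀ n, pwL i n < 192 ∧ h.e (pwL i n) = h.e i ^ (n + 1) := by
  intro n
  induction n with
  | zero => exact ⟨hi, by simp [pwL]⟩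
  | succ n ih => exact ⟨mL_lt ih.1 hi, by rw [pwL, h.mul _ ih.1 _ hi, ih.2, ← pow_succ]⟩

/-- A finite cyclic group has at most one involution. -/
theorem pow_eq_half {H : Type*} [Group H] [Finite H] {m v : H} {k : ℕ} (hk : m ^ k = v)
    (hv : orderOf v = 2) : v = m ^ (orderOf m / 2) := by
  obtain ⟨hv2, hv1⟩ := Cfsg.Agent.Invol.orderOf_two_iff.1 hv
  have hd : orderOf m ∣ 2 * k := orderOf_dvd_of_pow_eq_one (by rw [two_mul, pow_add, hk, hv2])
  have hnd : ¬ orderOf m ∣ k := fun e => hv1 (hk ▸ orderOf_dvd_iff_pow_eq_one.1 e)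
  have he : 2 ∣ orderOf m := by
    rcases Nat.coprime_or_dvd_of_prime Nat.prime_two (orderOf m) with e | e
    · exact absurd ((Nat.Coprime.symm e).dvd_of_dvd_mul_left hd) hnd
    · exact e
  obtain ⟨c, hc⟩ := he
  rw [hc] at hd hnd
  rw [hc, Nat.mul_div_cancel_left _ (by norm_num : 0 < 2), ← hk, ← pow_mod_orderOf, hc]
  obtain ⟨d, rfl⟩ := (Nat.mul_dvd_mul_iff_left (by norm_num : 0 < 2)).1 hd
  obtain ⟨q, rfl | rfl⟩ := d.even_or_odd'
  · exact absurd ⟨q, by ring⟩ hnd
  · have hc0 : c % (2 * c) = c := Nat.mod_eq_of_lt (by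
      have := orderOf_pos m; omega)
    rw [show c * (2 * q + 1) = c + 2 * c * q by ring, Nat.add_mul_mod_self_left, hc0]

namespace Setting

/-- The classes in the table, as classes of the group. -/
theorem cls_z [Finite G] (B : Bool) (hB : B = true ↔ IsConj (h.e zI) (h.e oI)) (hv : IsConj (h.e zI) (h.e vI))
    {i : ℕ} (hi : i < 192) : isZ B (cl i) = true ↔ IsConj (h.e zI) (h.e i) := by
  obtain ⟨r1, r2, r3, r4⟩ := h.isConj_rep hi
  constructor
  · intro hz
    simp only [isZ, Bool.or_eq_true, Bool.and_eq_true, beq_iff_eq] at hz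
    rcases hz with (e | e) | ⟨e', e⟩
    · rw [r1 e]
    · exact hv.trans (r2 e).symm
    · exact (hB.1 e').trans (r4 e).symm
  · intro hz
    have h4 : cl i = 1 ∨ cl i = 2 ∨ cl i = 3 ∨ cl i = 4 := (h.sq_iff hi).1 (by
      obtain ⟨c, hc⟩ := isConj_iff.1 hz
      rw [← hc, orderOf_conj_eq, h.ord_z])
    simp only [isZ, Bool.or_eq_true, Bool.and_eq_true, beq_iff_eq]
    rcases h4 with e | e | e | e
    · exact Or.inl (Or.inl e)
    · exact Or.inl (Or.inr e)
    · exact absurd ((hz.trans (r3 e)).symm) h.w_not_conj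
    · exact Or.inr ⟨hB.2 (hz.trans (r4 e)), e⟩

/-- The second class. -/
theorem cls_w [Finite G] (B : Bool) (hB : B = true ↔ IsConj (h.e zI) (h.e oI)) (hv : IsConj (h.e zI) (h.e vI))
    (hwo : B = false → IsConj (h.e wI) (h.e oI)) {i : ℕ} (hi : i < 192) :
    isW B (cl i) = true ↔ IsConj (h.e wI) (h.e i) := by
  obtain ⟨r1, r2, r3, r4⟩ := h.isConj_rep hi
  constructor
  · intro hz
    simp only [isW, Bool.or_eq_true, Bool.and_eq_true, beq_iff_eq, Bool.not_eq_true'] at hz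
    rcases hz with e | ⟨e', e⟩
    · exact (r3 e).symm
    · exact (hwo e').trans (r4 e).symm
  · intro hz
    have h4 : cl i = 1 ∨ cl i = 2 ∨ cl i = 3 ∨ cl i = 4 := (h.sq_iff hi).1 (by
      obtain ⟨c, hc⟩ := isConj_iff.1 hz
      rw [← hc, orderOf_conj_eq]
      exact (h.sq_iff const_lt.2.2.2.1).2 (Or.inr (Or.inr (Or.inl consts_ok.2.2.2.1))))
    simp only [isW, Bool.or_eq_true, Bool.and_eq_true, beq_iff_eq, Bool.not_eq_true']
    rcases h4 with e | e | e | e
    · exact absurd (r1 e ▸ hz) h.w_not_conj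
    · exact absurd ((hz.trans (r2 e)).trans hv.symm) h.w_not_conj
    · exact Or.inl e
    · refine Or.inr ⟨?_, e⟩
      cases B
      · rfl
      · exact absurd ((hz.trans (r4 e)).trans (hB.1 rfl).symm) h.w_not_conj

/-- Every involution is in one of the two classes. -/
theorem two_classes [Finite G] (hv : IsConj (h.e zI) (h.e vI))
    (ho : IsConj (h.e zI) (h.e oI) ∨ IsConj (h.e wI) (h.e oI)) (x : G) (hx : orderOf x = 2) :
    IsConj x (h.e zI) ∨ IsConj x (h.e wI) := by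
  obtain ⟨i, hi, hc, hconj⟩ := h.invol_conj hx
  obtain ⟨r1, r2, r3, r4⟩ := h.isConj_rep hi
  rcases hc with e | e | e | e
  · exact Or.inl (r1 e ▸ hconj)
  · exact Or.inl ((hconj.trans (r2 e)).trans hv.symm)
  · exact Or.inr (hconj.trans (r3 e))
  · exact ho.imp (fun ho => (hconj.trans (r4 e)).trans ho.symm) (fun ho => (hconj.trans (r4 e)).trans ho.symm)

/-- The number of pairs with given central involution, from the table. -/
theorem aCount_eq [Finite G] (B : Bool) (hz : ∀ i < 192, isZ B (cl i) = true ↔ IsConj (h.e zI) (h.e i))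
    (hw : ∀ i < 192, isW B (cl i) = true ↔ IsConj (h.e wI) (h.e i)) {D : List ℕ} (hD : ∀ i ∈ D, i < 192)
    (hDn : D.Nodup) {t : ℕ} (ht : t < 192) (hto : orderOf (h.e t) = 2)
    (hcent : ∀ x : G, x * h.e t = h.e t * x ↔ ∃ i ∈ D, h.e i = x) :
    S3313.aCount (h.e zI) (h.e wI) (h.e t) = (pairs B D t).length := by
  classical
  have hnd : (pairs B D t).Nodup := (hDn.product hDn).filter _
  have hmem : ∀ q ∈ pairs B D t, q.1 ∈ D ∧ q.2 ∈ D ∧ isZ B (cl q.1) = true ∧ isW B (cl q.2) = true ∧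
      powMem (mL q.1 q.2) t = true := fun q hq => by
    simp only [pairs, List.mem_filter, List.mem_flatMap, List.mem_map, Bool.and_eq_true] at hq
    obtain ⟨⟨i, hi, j, hj, rfl⟩, ⟨a, b⟩, c⟩ := hq
    exact ⟨hi, hj, a, b, c⟩
  rw [← List.toFinset_card_of_nodup hnd, S3313.aCount, ← Fintype.card_coe, ← Nat.card_eq_fintype_card]
  have hto' : ∀ q : (pairs B D t).toFinset, IsConj (h.e zI) (h.e q.1.1) ∧ IsConj (h.e wI) (h.e q.1.2) ∧
      S3313.vinv (h.e q.1.1, h.e q.1.2) = h.e t := by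
    intro q
    obtain ⟨h1, h2, h3, h4, h5⟩ := hmem _ (List.mem_toFinset.1 q.2)
    refine ⟨(hz _ (hD _ h1)).1 h3, (hw _ (hD _ h2)).1 h4, ?_⟩
    simp only [powMem, List.any_eq_true, List.mem_range, beq_iff_eq] at h5
    obtain ⟨n, -, hn⟩ := h5
    obtain ⟨-, hn'⟩ := e_pw h (mL_lt (hD _ h1) (hD _ h2)) n
    rw [hn, h.mul _ (hD _ h1) _ (hD _ h2)] at hn'
    exact (pow_eq_half hn'.symm hto).symm
  refine (Nat.card_congr (Equiv.ofBijective (fun q => (⟨(h.e q.1.1, h.e q.1.2), hto' q⟩ :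
    {p : G × G // IsConj (h.e zI) p.1 ∧ IsConj (h.e wI) p.2 ∧ S3313.vinv p = h.e t})) ⟨?_, ?_⟩)).symm
  · intro q q' e
    obtain ⟨h1, h2, -, -, -⟩ := hmem _ (List.mem_toFinset.1 q.2)
    obtain ⟨h1', h2', -, -, -⟩ := hmem _ (List.mem_toFinset.1 q'.2)
    simp only [Subtype.mk.injEq, Prod.mk.injEq] at e
    exact Subtype.ext (Prod.ext (h.inj _ (hD _ h1) _ (hD _ h1') e.1) (h.inj _ (hD _ h2) _ (hD _ h2') e.2))
  · rintro ⟨⟨x, y⟩, hx, hy, hv⟩
    have hinv : ∀ {a b : G}, orderOf a = 2 → IsConj a b → b * b = 1 := fun {a b} ha hab => by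
      obtain ⟨g, rfl⟩ := isConj_iff.1 hab
      rw [conj_mul, (Cfsg.Agent.Invol.orderOf_two_iff.1 ha).1, mul_one, mul_inv_cancel]
    have hx2 := hinv h.ord_z hx
    have hy2 := hinv ((h.sq_iff const_lt.2.2.2.1).2 (Or.inr (Or.inr (Or.inl consts_ok.2.2.2.1)))) hy
    have hc : Commute (x * y) (h.e t) := hv ▸ (Commute.refl (x * y)).pow_right _
    have hxv : x * h.e t = h.e t * x := by
      refine mul_inv_eq_iff_eq_mul.1 ?_
      have h1 : S3313.vinv (x, y) * S3313.vinv (x, y) = 1 := by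
        rw [hv]; exact (Cfsg.Agent.Invol.orderOf_two_iff.1 hto).1
      calc x * h.e t * x⁻¹ = x * S3313.vinv (x, y) * x⁻¹ := by rw [hv]
        _ = (S3313.vinv (x, y))⁻¹ := by
          show x * (x * y) ^ _ * x⁻¹ = _
          rw [← conj_pow, S3313.conj_involution_product x y hx2 hy2, inv_pow]; rfl
        _ = h.e t := by rw [inv_eq_of_mul_eq_one_right h1, hv]
    have hyv : y * h.e t = h.e t * y := by
      have : Commute (x⁻¹ * (x * y)) (h.e t) := (show Commute x (h.e t) from hxv).inv_left.mul_left hc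
      rwa [inv_mul_cancel_left] at this
    obtain ⟨i, hi, rfl⟩ := (hcent x).1 hxv
    obtain ⟨j, hj, rfl⟩ := (hcent y).1 hyv
    have hij := mL_lt (hD i hi) (hD j hj)
    have hord := order_ok
    simp only [List.all_eq_true, List.any_eq_true, List.mem_range, beq_iff_eq] at hord
    obtain ⟨n, hn, hn0⟩ := hord _ hij
    have hpow : (h.e i * h.e j) ^ (n + 1) = 1 := by
      rw [← h.mul _ (hD i hi) _ (hD j hj), ← (e_pw h hij n).2, hn0, h.e_zero]
    have hle : orderOf (h.e i * h.e j) ≤ 8 :=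
      (Nat.le_of_dvd (by omega) (orderOf_dvd_of_pow_eq_one hpow)).trans (by omega)
    have hv' : (h.e i * h.e j) ^ (orderOf (h.e i * h.e j) / 2) = h.e t := hv
    have hpos : orderOf (h.e i * h.e j) / 2 ≠ 0 := fun e => by
      rw [e, pow_zero] at hv'
      exact (Cfsg.Agent.Invol.orderOf_two_iff.1 hto).2 hv'.symm
    have hp : powMem (mL i j) t = true := by
      simp only [powMem, List.any_eq_true, List.mem_range, beq_iff_eq]
      refine ⟨orderOf (h.e i * h.e j) / 2 - 1, by omega, h.inj _ (e_pw h hij _).1 _ ht ?_⟩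
      rw [(e_pw h hij _).2, h.mul _ (hD i hi) _ (hD j hj), show _ - 1 + 1 = orderOf (h.e i * h.e j) / 2 by omega,
        hv']
    refine ⟨⟨(i, j), List.mem_toFinset.2 ?_⟩, rfl⟩
    simp only [pairs, List.mem_filter, List.mem_flatMap, List.mem_map, Bool.and_eq_true]
    exact ⟨⟨i, hi, j, hj, rfl⟩, ⟨(hz _ (hD i hi)).2 hx, (hw _ (hD j hj)).2 hy⟩, hp⟩

end Setting

end Cfsg.Agent.Invol.M12
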