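import Cfsg.Agent.Lib.Invol.M12.Codes
import Cfsg.Agent.Lib.Invol.M12.Count
import Cfsg.Agent.Lib.Fus.MathieuTwoGroups
import Cfsg.Agent.S0383

/-! The Mathieu group M12 has the centraliser of the table. -/

set_option autoImplicit false
set_option linter.unusedSectionVars false

noncomputable section

namespace Cfsg.Agent.Invol.M12

open Cfsg.Agent.Spor.Golay Cfsg.Agent.Fus.Mathieu
open scoped Pointwise

attribute [local irreducible] permOf comp pack Cfsg.Agent.Spor.Golay.get code mCodes mConjC mConjK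

theorem code_spec {i : ℕ} (hi : i < 192) :
    valid (code i) = true ∧ permOf (code i) ∈ Cfsg.Spor.M12 ∧
      pack 24 (Cfsg.Agent.Spor.Golay.get (code i)) = code i ∧ code i ∈ mCodes := by
  obtain ⟨hl, hall, -, -⟩ := codes_grp
  have hmem : code i ∈ mCodes := by
    unfold code
    rw [List.getD_eq_getElem _ _ (by omega)]
    exact List.getElem_mem _
  simp only [List.all_eq_true, Bool.and_eq_true, beq_iff_eq] at hall
  obtain ⟨h1, h2⟩ := hall _ hmem
  exact ⟨(inGrp_sound h1).1, fix12 ▸ (inGrp_sound h1).2, h2, hmem⟩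

theorem code_eq_of_permOf {P Q : ℕ} (hP : valid P = true) (hQ : valid Q = true)
    (cP : pack 24 (Cfsg.Agent.Spor.Golay.get P) = P) (cQ : pack 24 (Cfsg.Agent.Spor.Golay.get Q) = Q)
    (e : permOf P = permOf Q) : P = Q := by
  have hg : ∀ i < 24, Cfsg.Agent.Spor.Golay.get P i = Cfsg.Agent.Spor.Golay.get Q i := fun i hi => by
    have h2 := congrArg (fun σ : Equiv.Perm GolayPt => idx (σ (pt i))) e
    simpa [idx_permOf hP, idx_permOf hQ, idx_pt hi] using h2
  have key : ∀ n, ∀ f f' : ℕ → ℕ, (∀ i < n, f i = f' i) → pack n f = pack n f' := by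
    intro n
    induction n with
    | zero => intro f f' _; unfold pack; rfl
    | succ n ih =>
      intro f f' hh
      unfold pack
      rw [hh 0 (by omega), ih _ _ fun i hi => hh (i + 1) (by omega)]
  rw [← cP, ← cQ]
  exact key 24 _ _ hg

/-- The listed element of M12. -/
def mE (i : ℕ) : ↥Cfsg.Spor.M12 :=
  if hi : i < 192 then ⟨permOf (code i), (code_spec hi).2.1⟩ else 1

theorem mE_val {i : ℕ} (hi : i < 192) : (mE i : Equiv.Perm GolayPt) = permOf (code i) := by
  rw [mE, dif_pos hi]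

theorem mE_inj : ∀ i < 192, ∀ j < 192, mE i = mE j → i = j := by
  intro i hi j hj e
  have e' : permOf (code i) = permOf (code j) := by rw [← mE_val hi, ← mE_val hj, e]
  obtain ⟨v1, -, c1, -⟩ := code_spec hi
  obtain ⟨v2, -, c2, -⟩ := code_spec hj
  have e2 := code_eq_of_permOf v1 v2 c1 c2 e'
  obtain ⟨hl, -, hn, -⟩ := codes_grp
  unfold code at e2
  rw [List.getD_eq_getElem _ _ (by omega), List.getD_eq_getElem _ _ (by omega)] at e2
  exact hn.getElem_inj_iff.1 e2

theorem mE_mul : ∀ i < 192, ∀ j < 192, mE (mL i j) = mE i * mE j := by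
  intro i hi j hj
  have h := codes_mul
  simp only [List.all_eq_true, List.mem_range, beq_iff_eq] at h
  refine Subtype.ext ?_
  rw [Subgroup.coe_mul, mE_val hi, mE_val hj, mE_val (mL_lt hi hj), ← h i hi j hj,
    permOf_comp (code_spec hi).1 (code_spec hj).1]

theorem card_cent_le : Nat.card (Subgroup.centralizer ({mE zI} : Set ↥Cfsg.Spor.M12)) ≤ 192 := by
  classical
  obtain ⟨hlc, hlk, hn, hall⟩ := conj_ok
  simp only [List.all_eq_true, Bool.and_eq_true, beq_iff_eq] at hall
  have hclass : 495 ≤ Nat.card {x : ↥Cfsg.Spor.M12 // IsConj (mE zI) x} := by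
    have hcj : ∀ n : Fin 495, ∃ x : ↥Cfsg.Spor.M12, IsConj (mE zI) x ∧
        (x : Equiv.Perm GolayPt) = permOf (mConjC[n.val]'(by omega)) := by
      intro n
      have hm : (mConjK[n.val]'(by omega), mConjC[n.val]'(by omega)) ∈ mConjK.zip mConjC := by
        rw [List.mem_iff_getElem]
        exact ⟨n.val, by simp [hlc, hlk], by simp⟩
      obtain ⟨⟨⟨h1, h2⟩, -⟩, h4⟩ := hall _ hm
      refine ⟨⟨_, fix12 ▸ (inGrp_sound h2).2⟩, isConj_iff.2 ⟨⟨_, fix12 ▸ (inGrp_sound h1).2⟩, Subtype.ext ?_⟩, rfl⟩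
      have e := congrArg permOf h4
      rw [permOf_comp (inGrp_sound h1).1 (code_spec const_lt.1).1,
        permOf_comp (inGrp_sound h2).1 (inGrp_sound h1).1] at e
      simp only [Subgroup.coe_mul, Subgroup.coe_inv, mE_val const_lt.1]
      rw [e, mul_inv_cancel_right]
    choose x hx hxe using hcj
    refine le_trans (le_of_eq (Nat.card_fin 495).symm) (Nat.card_le_card_of_injective
      (fun n => (⟨x n, hx n⟩ : {y // IsConj (mE zI) y})) fun a b e => ?_)
    have e' : (x a : Equiv.Perm GolayPt) = x b := congrArg Subtype.val (congrArg Subtype.val e)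
    rw [hxe, hxe] at e'
    have hm : ∀ n : Fin 495, valid (mConjC[n.val]'(by omega)) = true ∧
        pack 24 (Cfsg.Agent.Spor.Golay.get (mConjC[n.val]'(by omega))) = mConjC[n.val]'(by omega) := fun n => by
      have hm : (mConjK[n.val]'(by omega), mConjC[n.val]'(by omega)) ∈ mConjK.zip mConjC := by
        rw [List.mem_iff_getElem]
        exact ⟨n.val, by simp [hlc, hlk], by simp⟩
      obtain ⟨⟨⟨-, h2⟩, h3⟩, -⟩ := hall _ hm
      exact ⟨(inGrp_sound h2).1, h3⟩
    exact Fin.ext (hn.getElem_inj_iff.1 (code_eq_of_permOf (hm a).1 (hm b).1 (hm a).2 (hm b).2 e'))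
  have h1 := S3313.card_class_mul (mE zI)
  rw [card12] at h1
  by_contra hc
  have h2 := Nat.mul_le_mul hclass (Nat.succ_le_of_lt (not_le.1 hc))
  omega

/-- The setting of M12. -/
def settingM12 : Setting ↥Cfsg.Spor.M12 where
  e := mE
  inj := mE_inj
  mul := mE_mul
  cen x := by
    classical
    have hz : ∀ i < 192, mE i * mE zI = mE zI * mE i := fun i hi => by
      have hcl : cl zI = 1 := consts_ok.1
      have h := (cent_count const_lt.1).1 hcl
      have : com zI i = true := List.countP_eq_length.1 (h.trans List.length_range.symm) i (List.mem_range.2 hi)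
      rw [com, beq_iff_eq] at this
      rw [← mE_mul i hi _ const_lt.1, ← mE_mul _ const_lt.1 i hi, this]
    refine ⟨fun hx => ?_, fun ⟨i, hi, e⟩ => e ▸ hz i hi⟩
    let f : Fin 192 → Subgroup.centralizer ({mE zI} : Set ↥Cfsg.Spor.M12) := fun i =>
      ⟨mE i.val, Subgroup.mem_centralizer_singleton_iff.2 (hz _ i.isLt)⟩
    have hf : Function.Injective f := fun a b e => Fin.ext (mE_inj _ a.isLt _ b.isLt (congrArg Subtype.val e))
    obtain ⟨i, hi⟩ := (hf.bijective_of_nat_card_le (by rw [Nat.card_fin]; exact card_cent_le)).2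
      ⟨x, Subgroup.mem_centralizer_singleton_iff.2 hx⟩
    exact ⟨i.val, i.isLt, congrArg Subtype.val hi⟩

/-- M12 is simple. -/
theorem simple12 : IsSimpleGroup ↥Cfsg.Spor.M12 := by
  haveI := Cfsg.Agent.S0383.result _ square_mem
  let φ : ↥(MulAction.stabilizer Cfsg.M24 Cfsg.Spor.squareDodecad) ≃* ↥Cfsg.Spor.M12 :=
    { toFun := fun g => ⟨g.1.1, ⟨g.1.2, g.2⟩⟩
      invFun := fun g => ⟨⟨g.1, g.2.1⟩, g.2.2⟩
      left_inv := fun g => rfl
      right_inv := fun g => rfl
      map_mul' := fun a b => rfl }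
  exact φ.symm.isSimpleGroup_congr.mpr inferInstance

theorem noncomm12 : ¬ IsMulCommutative ↥Cfsg.Spor.M12 := by
  intro hc
  have h := (settingM12.com_iff const_lt.2.1 const_lt.2.2.2.2.2.1).1 (hc.is_comm.comm _ _)
  rw [noncomm_ok] at h
  exact Bool.noConfusion h

/-- A two-central involution is conjugate to the chosen one. -/
theorem two_central_conj {u : ↥Cfsg.Spor.M12} (hu : Cfsg.IsTwoCentralInvolution u) :
    IsConj u (mE zI) := by
  haveI : Fact (Nat.Prime 2) := ⟨Nat.prime_two⟩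
  obtain ⟨hu2, P, hPu, hPc⟩ := hu
  obtain ⟨Q, hQ⟩ := settingM12.S0_sylow
  obtain ⟨c, hc⟩ := MulAction.exists_smul_eq ↥Cfsg.Spor.M12 P Q
  have hmem : ∀ x, x ∈ (Q : Subgroup ↥Cfsg.Spor.M12) → c⁻¹ * x * c ∈ (P : Subgroup ↥Cfsg.Spor.M12) := fun x hx => by
    rw [← hc, Sylow.coe_subgroup_smul] at hx
    obtain ⟨y, hy, rfl⟩ := hx
    show c⁻¹ * (c * y * c⁻¹) * c ∈ _
    rw [show c⁻¹ * (c * y * c⁻¹) * c = y by group]
    exact hy
  have hcu : c * u * c⁻¹ ∈ (Q : Subgroup ↥Cfsg.Spor.M12) := by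
    rw [← hc, Sylow.coe_subgroup_smul]; exact ⟨u, hPu, rfl⟩
  rw [hQ] at hcu
  obtain ⟨i, hi, hie⟩ := hcu
  have hall : SI.all (com i) = true := List.all_eq_true.2 fun j hj => by
    rw [← settingM12.com_iff (SI_lt hi) (SI_lt hj), hie]
    have h1 := hPc _ (hmem (settingM12.e j) (by rw [hQ]; exact ⟨j, hj, rfl⟩))
    calc c * u * c⁻¹ * settingM12.e j = c * (u * (c⁻¹ * settingM12.e j * c)) * c⁻¹ := by group
      _ = settingM12.e j * (c * u * c⁻¹) := by rw [← h1]; group
  have hcen := sylow_ok.2.2.2.2.1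
  simp only [List.all_eq_true, Bool.or_eq_true, Bool.not_eq_true', beq_iff_eq] at hcen
  rcases hcen i hi with (e | e) | e
  · exact absurd hall (by simp [e])
  · exfalso
    rw [e, settingM12.e_zero, eq_comm, conj_eq_one_iff] at hie
    rw [hie, orderOf_one] at hu2
    omega
  · exact isConj_iff.2 ⟨c, by rw [← hie, e]; rfl⟩

end Cfsg.Agent.Invol.M12
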