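import Cfsg.Agent.Lib.Invol.M12.Facts
import Cfsg.Agent.Lib.Invol.Sylow
import Cfsg.Agent.Lib.Invol.Basic
import Cfsg.Agent.S0215

/-! A group with an involution centralised as in M12: first properties. -/

set_option autoImplicit false
set_option linter.unusedSectionVars false
set_option linter.style.haveILetI false

namespace Cfsg.Agent.Invol.M12

/-- The hypothesis: the centraliser of `e zI` is given by the table. -/
structure Setting (G : Type*) [Group G] where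
  e : ℕ → G
  inj : ∀ i < 192, ∀ j < 192, e i = e j → i = j
  mul : ∀ i < 192, ∀ j < 192, e (mL i j) = e i * e j
  cen : ∀ x : G, x * e zI = e zI * x ↔ ∃ i < 192, e i = x

variable {G : Type*} [Group G] (h : Setting G)

theorem mL_lt {i j : ℕ} (hi : i < 192) (hj : j < 192) : mL i j < 192 := by
  have := lt_ok
  simp only [List.all_eq_true, List.mem_range, decide_eq_true_eq] at this
  exact this i hi j hj

theorem iL_spec {i : ℕ} (hi : i < 192) : iL i < 192 ∧ mL i (iL i) = 0 := by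
  have := inv_ok
  simp only [List.all_eq_true, List.mem_range, Bool.and_eq_true, decide_eq_true_eq, beq_iff_eq] at this
  exact this i hi

theorem cl_spec {i : ℕ} (hi : i < 192) : cl i < 6 ∧
    ((cl i = 1 ∨ cl i = 2 ∨ cl i = 3 ∨ cl i = 4) ↔ (i ≠ 0 ∧ mL i i = 0)) ∧ (cl i = 1 ↔ i = zI) := by
  have := cls_ok
  simp only [List.all_eq_true, List.mem_range, Bool.and_eq_true, decide_eq_true_eq, beq_iff_eq] at this
  obtain ⟨⟨h1, h2⟩, h3⟩ := this i hi
  have h2' := (Bool.eq_iff_iff.mp h2)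
  have h3' := (Bool.eq_iff_iff.mp h3)
  simp only [Bool.or_eq_true, beq_iff_eq, Bool.and_eq_true, decide_eq_true_eq, or_assoc] at h2'
  simp only [beq_iff_eq] at h3'
  exact ⟨h1, h2', h3'⟩

theorem cj_lt {k i : ℕ} (hk : k < 192) (hi : i < 192) : cj k i < 192 :=
  mL_lt (mL_lt hk hi) (iL_spec hk).1

theorem cent_count {i : ℕ} (hi : i < 192) :
    (cl i = 1 → (List.range 192).countP (com i) = 192) ∧ (cl i = 2 → (List.range 192).countP (com i) = 32) ∧
    (cl i = 3 → (List.range 192).countP (com i) = 16) ∧ (cl i = 4 → (List.range 192).countP (com i) = 8) := by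
  have := cent_ok
  simp only [List.all_eq_true, List.mem_range, Bool.and_eq_true, Bool.or_eq_true, Bool.not_eq_true',
    beq_eq_false_iff_ne, beq_iff_eq] at this
  obtain ⟨⟨⟨h1, h2⟩, h3⟩, h4⟩ := this i hi
  exact ⟨h1.resolve_left ∘ not_not_intro, h2.resolve_left ∘ not_not_intro, h3.resolve_left ∘ not_not_intro,
    h4.resolve_left ∘ not_not_intro⟩

theorem rep_spec {i : ℕ} (hi : i < 192) :
    (cl i = 2 → ∃ k < 192, cj k i = vI) ∧ (cl i = 3 → ∃ k < 192, cj k i = wI) ∧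
    (cl i = 4 → ∃ k < 192, cj k i = oI) := by
  have := orbit_ok
  simp only [List.all_eq_true, List.any_eq_true, List.mem_range, Bool.and_eq_true, Bool.or_eq_true,
    Bool.not_eq_true', beq_eq_false_iff_ne, beq_iff_eq] at this
  obtain ⟨⟨h2, h3⟩, h4⟩ := this i hi
  exact ⟨h2.resolve_left ∘ not_not_intro, h3.resolve_left ∘ not_not_intro, h4.resolve_left ∘ not_not_intro⟩

theorem const_lt : zI < 192 ∧ vI < 192 ∧ vzI < 192 ∧ wI < 192 ∧ oI < 192 ∧ bI < 192 ∧ bwI < 192 ∧ yI < 192 := by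
  decide

theorem mi_spec {a : ℕ} (ha : a < 32) : mi a < 192 ∧ com (mi a) vI = true ∧
    (∀ b < 32, mM a b < 32 ∧ mi (mM a b) = mL (mi a) (mi b) ∧ (mi a = mi b → a = b)) ∧
    (a ≠ 0 → parM a / 5 < a ∧ mM (parM a / 5) (mgen (parM a % 5)) = a) := by
  have := m_ok.1
  simp only [List.all_eq_true, List.mem_range, Bool.and_eq_true, Bool.or_eq_true, Bool.not_eq_true',
    beq_eq_false_iff_ne, beq_iff_eq, decide_eq_true_eq] at this
  obtain ⟨⟨⟨h1, h2⟩, h3⟩, h4⟩ := this a ha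
  exact ⟨h1, h2, fun b hb => ⟨(h3 b hb).1.1, (h3 b hb).1.2, (h3 b hb).2.resolve_left ∘ not_not_intro⟩,
    h4.resolve_left⟩

theorem mgen_lt (k : ℕ) : mgen k < 32 := by
  unfold mgen
  split <;> decide

theorem mi_complete {i : ℕ} (hi : i < 192) (hc : com i vI = true) : ∃ a < 32, mi a = i := by
  have := m_ok.2.1
  simp only [List.all_eq_true, List.any_eq_true, List.mem_range, Bool.or_eq_true, Bool.not_eq_true',
    beq_iff_eq] at this
  exact (this i hi).resolve_left (by simp [hc])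

namespace Setting

theorem e_zero : h.e 0 = 1 := by
  have h0 := h.mul 0 (by norm_num) 0 (by norm_num)
  rw [show mL 0 0 = 0 by decide +kernel] at h0
  simpa using h0

theorem e_inv {i : ℕ} (hi : i < 192) : h.e (iL i) = (h.e i)⁻¹ := by
  have h0 := h.mul i hi (iL i) (iL_spec hi).1
  rw [(iL_spec hi).2, h.e_zero] at h0
  exact eq_inv_of_mul_eq_one_right h0.symm

theorem e_eq_one {i : ℕ} (hi : i < 192) : h.e i = 1 ↔ i = 0 :=
  ⟨fun e => h.inj i hi 0 (by norm_num) (e.trans h.e_zero.symm), fun e => e ▸ h.e_zero⟩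

theorem e_eq_iff {i j : ℕ} (hi : i < 192) (hj : j < 192) : h.e i = h.e j ↔ i = j :=
  ⟨h.inj i hi j hj, fun e => e ▸ rfl⟩

theorem com_iff {i j : ℕ} (hi : i < 192) (hj : j < 192) :
    h.e i * h.e j = h.e j * h.e i ↔ com i j = true := by
  rw [← h.mul i hi j hj, ← h.mul j hj i hi, h.e_eq_iff (mL_lt hi hj) (mL_lt hj hi), com, beq_iff_eq]

theorem conj_e {k i : ℕ} (hk : k < 192) (hi : i < 192) : h.e k * h.e i * (h.e k)⁻¹ = h.e (cj k i) := by
  rw [cj, h.mul _ (mL_lt hk hi) _ (iL_spec hk).1, h.mul k hk i hi, h.e_inv hk]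

theorem mem_cent {x : G} (hx : x * h.e zI = h.e zI * x) : ∃ i < 192, h.e i = x := (h.cen x).1 hx

theorem e_comm_z {i : ℕ} (hi : i < 192) : h.e i * h.e zI = h.e zI * h.e i := (h.cen _).2 ⟨i, hi, rfl⟩

theorem sq_iff {i : ℕ} (hi : i < 192) : orderOf (h.e i) = 2 ↔ (cl i = 1 ∨ cl i = 2 ∨ cl i = 3 ∨ cl i = 4) := by
  rw [Cfsg.Agent.Invol.orderOf_two_iff, (cl_spec hi).2.1, ← h.mul i hi i hi, h.e_eq_one (mL_lt hi hi), ne_eq, h.e_eq_one hi,
    and_comm]

theorem ord_z : orderOf (h.e zI) = 2 := (h.sq_iff const_lt.1).2 (Or.inl consts_ok.1)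

theorem z_sq : h.e zI * h.e zI = 1 := (Cfsg.Agent.Invol.orderOf_two_iff.1 h.ord_z).1

theorem z_ne : h.e zI ≠ 1 := (Cfsg.Agent.Invol.orderOf_two_iff.1 h.ord_z).2

theorem vz_eq : h.e vzI = h.e vI * h.e zI ∧ h.e vzI = h.e zI * h.e vI := by
  obtain ⟨-, -, -, -, -, -, -, -, h1, h2, -⟩ := consts_ok
  exact ⟨h1 ▸ h.mul _ const_lt.2.1 _ const_lt.1, h2 ▸ h.mul _ const_lt.1 _ const_lt.2.1⟩

theorem isConj_rep {i : ℕ} (hi : i < 192) :
    (cl i = 1 → i = zI) ∧ (cl i = 2 → IsConj (h.e i) (h.e vI)) ∧ (cl i = 3 → IsConj (h.e i) (h.e wI)) ∧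
    (cl i = 4 → IsConj (h.e i) (h.e oI)) := by
  obtain ⟨h2, h3, h4⟩ := rep_spec hi
  refine ⟨(cl_spec hi).2.2.1, fun hc => ?_, fun hc => ?_, fun hc => ?_⟩
  · obtain ⟨k, hk, e⟩ := h2 hc
    exact isConj_iff.2 ⟨h.e k, by rw [h.conj_e hk hi, e]⟩
  · obtain ⟨k, hk, e⟩ := h3 hc
    exact isConj_iff.2 ⟨h.e k, by rw [h.conj_e hk hi, e]⟩
  · obtain ⟨k, hk, e⟩ := h4 hc
    exact isConj_iff.2 ⟨h.e k, by rw [h.conj_e hk hi, e]⟩

end Setting

/-- The Sylow 2-subgroup of the table. -/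
def S0 : Subgroup G where
  carrier := {x | ∃ i ∈ SI, h.e i = x}
  one_mem' := ⟨0, by decide +kernel, h.e_zero⟩
  mul_mem' := by
    rintro _ _ ⟨i, hi, rfl⟩ ⟨j, hj, rfl⟩
    have hs := sylow_ok.1
    simp only [List.all_eq_true, Bool.and_eq_true, decide_eq_true_eq, List.contains_eq_mem] at hs
    have hj' : iL j ∈ SI := by
      have h0 : (0 : ℕ) ∈ SI := by decide +kernel
      have := (hs 0 h0).2 j hj
      rwa [show mL 0 (iL j) = iL j from ?_] at this
      have e := h.mul 0 (by norm_num) (iL j) (iL_spec (hs j hj).1).1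
      rw [h.e_zero, one_mul] at e
      exact h.inj _ (mL_lt (by norm_num) (iL_spec (hs j hj).1).1) _ (iL_spec (hs j hj).1).1 e
    have hk := (hs i hi).2 (iL j) hj'
    refine ⟨_, hk, ?_⟩
    have hjl := (hs j hj).1
    rw [h.mul i (hs i hi).1 _ (iL_spec (iL_spec hjl).1).1, h.e_inv (iL_spec hjl).1, h.e_inv hjl, inv_inv]
  inv_mem' := by
    rintro _ ⟨i, hi, rfl⟩
    have hs := sylow_ok.1
    simp only [List.all_eq_true, Bool.and_eq_true, decide_eq_true_eq, List.contains_eq_mem] at hs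
    have h0 : (0 : ℕ) ∈ SI := by decide +kernel
    exact ⟨_, (hs 0 h0).2 i hi, by rw [h.mul 0 (by norm_num) _ (iL_spec (hs i hi).1).1, h.e_zero, one_mul,
      h.e_inv (hs i hi).1]⟩

theorem SI_lt {i : ℕ} (hi : i ∈ SI) : i < 192 := by
  have hs := sylow_ok.1
  simp only [List.all_eq_true, Bool.and_eq_true, decide_eq_true_eq] at hs
  exact (hs i hi).1

namespace Setting

/-- A set given by a list of indices has the length of the list. -/
theorem card_image {l : List ℕ} (hl : ∀ i ∈ l, i < 192) (hn : l.Nodup) {A : Set G}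
    (hA : ∀ x, x ∈ A ↔ ∃ i ∈ l, h.e i = x) : Nat.card A = l.length := by
  classical
  have he : A = (((l.toFinset).image h.e : Finset G) : Set G) := by
    ext x; simp [hA]
  rw [he, Nat.card_coe_set_eq, Set.ncard_coe_finset, Finset.card_image_of_injOn, List.toFinset_card_of_nodup hn]
  intro i hi j hj e
  simp only [List.coe_toFinset, Set.mem_ofPred] at hi hj
  exact h.inj i (hl i hi) j (hl j hj) e

theorem card_S0 : Nat.card (S0 h) = 64 := by
  rw [← SetLike.coe_sort_coe, h.card_image (l := SI) (fun i hi => SI_lt hi) sylow_ok.2.2.1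
    (A := ((S0 h : Subgroup G) : Set G)) fun x => Iff.rfl]
  exact sylow_ok.2.1

theorem card_C : Nat.card (Subgroup.centralizer ({h.e zI} : Set G)) = 192 := by
  rw [← SetLike.coe_sort_coe, h.card_image (l := List.range 192) (fun i hi => List.mem_range.1 hi)
    List.nodup_range, List.length_range]
  intro x
  rw [SetLike.mem_coe, Subgroup.mem_centralizer_singleton_iff, h.cen x]
  simp [List.mem_range]

theorem isPGroup_S0 : IsPGroup 2 (S0 h) := IsPGroup.of_card (n := 6) (by rw [h.card_S0]; norm_num)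

variable [Finite G]

theorem S0_sylow : ∃ P : Sylow 2 G, (P : Subgroup G) = S0 h := by
  haveI : Fact (Nat.Prime 2) := ⟨Nat.prime_two⟩
  obtain ⟨P, hP⟩ := h.isPGroup_S0.exists_le_sylow
  refine ⟨P, le_antisymm ?_ hP⟩
  by_contra hne
  have hlt : (S0 h).subgroupOf (P : Subgroup G) < ⊤ := lt_top_iff_ne_top.2 fun e =>
    hne (Subgroup.subgroupOf_eq_top.1 e)
  haveI : Group.IsNilpotent (P : Subgroup G) := P.2.isNilpotent
  obtain ⟨x, hxN, hxS⟩ := SetLike.exists_of_lt (Group.normalizerCondition_of_isNilpotent _ hlt)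
  rw [Subgroup.mem_subgroupOf] at hxS
  have hnorm : ∀ s ∈ S0 h, (x : G) * s * (x : G)⁻¹ ∈ S0 h := fun s hs => by
    have := (Subgroup.mem_normalizer_iff.1 hxN ⟨s, hP hs⟩).1 (by rwa [Subgroup.mem_subgroupOf])
    rwa [Subgroup.mem_subgroupOf] at this
  have hnorm' : ∀ s ∈ S0 h, (x : G)⁻¹ * s * x ∈ S0 h := fun s hs => by
    have h1 := (Subgroup.mem_normalizer_iff.1 hxN (x⁻¹ * ⟨s, hP hs⟩ * x)).2 (by
      rw [show x * (x⁻¹ * (⟨s, hP hs⟩ : (P : Subgroup G)) * x) * x⁻¹ = ⟨s, hP hs⟩ by group,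
        Subgroup.mem_subgroupOf]
      exact hs)
    simpa [Subgroup.mem_subgroupOf] using h1
  have hzS : zI ∈ SI := by
    have := sylow_ok.2.2.2.1
    simpa [List.contains_eq_mem] using this
  obtain ⟨i, hi, hie⟩ := hnorm _ ⟨zI, hzS, rfl⟩
  have hic : ∀ j ∈ SI, com i j = true := fun j hj => by
    rw [← h.com_iff (SI_lt hi) (SI_lt hj), hie]
    obtain ⟨k, hk, hke⟩ := hnorm' _ ⟨j, hj, rfl⟩
    have h1 := h.e_comm_z (SI_lt hk)
    rw [hke] at h1
    calc (x : G) * h.e zI * (x : G)⁻¹ * h.e j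
        = (x : G) * (h.e zI * ((x : G)⁻¹ * h.e j * x)) * (x : G)⁻¹ := by group
      _ = h.e j * ((x : G) * h.e zI * (x : G)⁻¹) := by rw [← h1]; group
  have hcen := sylow_ok.2.2.2.2.1
  simp only [List.all_eq_true, Bool.or_eq_true, Bool.not_eq_true', beq_iff_eq] at hcen
  rcases hcen i hi with (e | e) | e
  · exact absurd (List.all_eq_true.2 hic) (by simp [e])
  · rw [e, h.e_zero] at hie
    exact h.z_ne (mul_eq_left.1 (mul_inv_eq_one.1 hie.symm))
  · rw [e] at hie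
    have hxC : (x : G) ∈ Subgroup.centralizer ({h.e zI} : Set G) :=
      Subgroup.mem_centralizer_singleton_iff.2 (mul_inv_eq_iff_eq_mul.1 hie.symm)
    set T := (P : Subgroup G) ⊓ Subgroup.centralizer ({h.e zI} : Set G) with hT
    have hST : S0 h ≤ T := le_inf hP fun s ⟨j, hj, hje⟩ =>
      Subgroup.mem_centralizer_singleton_iff.2 (hje ▸ h.e_comm_z (SI_lt hj))
    obtain ⟨n, hn⟩ := IsPGroup.iff_card.1 (P.2.to_le (inf_le_left (b := Subgroup.centralizer ({h.e zI} : Set G))))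
    have hdvd : 2 ^ n ∣ 192 := by
      have := Subgroup.card_dvd_of_le (inf_le_right : T ≤ _)
      rwa [hn, h.card_C] at this
    have hn6 : n ≤ 6 := by
      by_contra hlt'
      have : 2 ^ 7 ∣ 192 := (pow_dvd_pow 2 (by omega : 7 ≤ n)).trans hdvd
      norm_num at this
    refine hxS ((Subgroup.eq_of_le_of_card_ge hST ?_).symm ▸ (⟨x.2, hxC⟩ : (x : G) ∈ T))
    rw [h.card_S0, hn]
    calc 2 ^ n ≤ 2 ^ 6 := Nat.pow_le_pow_right (by norm_num) hn6
      _ = 64 := by norm_num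

/-- Involutions of a subgroup containing the Sylow subgroup are fused into it. -/
theorem invol_conj_in {H : Subgroup G} (hH : S0 h ≤ H) {u : G} (hu : orderOf u = 2) (huH : u ∈ H) :
    ∃ i ∈ SI, (cl i = 1 ∨ cl i = 2 ∨ cl i = 3 ∨ cl i = 4) ∧ ∃ g ∈ H, g * u * g⁻¹ = h.e i := by
  haveI : Fact (Nat.Prime 2) := ⟨Nat.prime_two⟩
  obtain ⟨P, hP⟩ := h.S0_sylow
  let P' : Sylow 2 H := P.subtype (hP ▸ hH)
  have hu' : orderOf (⟨u, huH⟩ : H) = 2 ^ 1 := by
    rw [← Subgroup.orderOf_coe]; simpa using hu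
  obtain ⟨Q, hQ⟩ := (IsPGroup.of_card (n := 1) (by rw [Nat.card_zpowers, hu']) :
    IsPGroup 2 (Subgroup.zpowers (⟨u, huH⟩ : H))).exists_le_sylow
  obtain ⟨c, hc⟩ := MulAction.exists_smul_eq H Q P'
  have hm : c * ⟨u, huH⟩ * c⁻¹ ∈ (P' : Subgroup H) := by
    rw [← hc, Sylow.coe_subgroup_smul]
    exact ⟨_, hQ (Subgroup.mem_zpowers _), rfl⟩
  rw [Sylow.coe_subtype, Subgroup.mem_subgroupOf, hP] at hm
  obtain ⟨i, hi, hie⟩ := hm
  have hie' : h.e i = (c : G) * u * (c : G)⁻¹ := by simpa using hie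
  refine ⟨i, hi, (h.sq_iff (SI_lt hi)).1 ?_, c, c.2, hie'.symm⟩
  rw [hie', orderOf_conj_eq, hu]

theorem invol_conj {u : G} (hu : orderOf u = 2) :
    ∃ i < 192, (cl i = 1 ∨ cl i = 2 ∨ cl i = 3 ∨ cl i = 4) ∧ IsConj u (h.e i) := by
  obtain ⟨i, hi, hc, g, -, hg⟩ := h.invol_conj_in (H := ⊤) le_top hu (Subgroup.mem_top u)
  exact ⟨i, SI_lt hi, hc, isConj_iff.2 ⟨g, hg⟩⟩

theorem card_cent {i : ℕ} (hi : i < 192) :
    Nat.card {x : G // x * h.e zI = h.e zI * x ∧ x * h.e i = h.e i * x} = (List.range 192).countP (com i) := by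
  rw [List.countP_eq_length_filter]
  refine h.card_image (l := (List.range 192).filter (com i)) (fun j hj => List.mem_range.1 (List.mem_filter.1 hj).1)
    (List.nodup_range.filter _) (A := {x | x * h.e zI = h.e zI * x ∧ x * h.e i = h.e i * x}) fun x => ?_
  simp only [Set.mem_ofPred, List.mem_filter, List.mem_range]
  constructor
  · rintro ⟨h1, h2⟩
    obtain ⟨j, hj, rfl⟩ := h.mem_cent h1
    exact ⟨j, ⟨hj, (h.com_iff hi hj).1 h2.symm⟩, rfl⟩
  · rintro ⟨j, ⟨hj, hc⟩, rfl⟩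
    exact ⟨h.e_comm_z hj, ((h.com_iff hi hj).2 hc).symm⟩

/-- Conjugates of `z` commuting with it are exchanged with it. -/
theorem swap {i : ℕ} (hi : i < 192) (hc : cl i = 2 ∨ cl i = 3 ∨ cl i = 4) (hconj : IsConj (h.e zI) (h.e i)) :
    ∃ k : G, k * h.e zI * k⁻¹ = h.e i ∧ k * h.e i * k⁻¹ = h.e zI := by
  obtain ⟨x, hx⟩ := isConj_iff.1 hconj
  have hiz := h.e_comm_z hi
  obtain ⟨j, hj, hje⟩ := h.mem_cent (x := x⁻¹ * h.e zI * x) (by
    rw [← hx] at hiz
    calc x⁻¹ * h.e zI * x * h.e zI = x⁻¹ * (h.e zI * (x * h.e zI * x⁻¹)) * x := by group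
      _ = h.e zI * (x⁻¹ * h.e zI * x) := by rw [← hiz]; group)
  have hjne : j ≠ zI := by
    rintro rfl
    have h1 : h.e i = h.e zI := by
      rw [← hx]
      calc x * h.e zI * x⁻¹ = x * (x⁻¹ * h.e zI * x) * x⁻¹ := by rw [← hje]
        _ = h.e zI := by group
    have := h.inj i hi zI const_lt.1 h1
    subst this
    rcases hc with e | e | e <;> rw [consts_ok.1] at e <;> omega
  have hj4 : cl j = 1 ∨ cl j = 2 ∨ cl j = 3 ∨ cl j = 4 := (h.sq_iff hj).1 (by
    rw [hje]; simpa using (orderOf_conj_eq x⁻¹ (h.e zI)).trans h.ord_z)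
  have hcount : (List.range 192).countP (com j) = (List.range 192).countP (com i) := by
    rw [← h.card_cent hj, ← h.card_cent hi]
    refine Nat.card_congr ((MulAut.conj x).toEquiv.subtypeEquiv fun a => ?_)
    simp only [MulEquiv.toEquiv_eq_coe, EquivLike.coe_coe, MulAut.conj_apply, hje, ← hx]
    constructor
    · rintro ⟨h1, h2⟩
      exact ⟨by
        calc x * a * x⁻¹ * h.e zI = x * (a * (x⁻¹ * h.e zI * x)) * x⁻¹ := by group
          _ = h.e zI * (x * a * x⁻¹) := by rw [h2]; group, by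
        calc x * a * x⁻¹ * (x * h.e zI * x⁻¹) = x * (a * h.e zI) * x⁻¹ := by group
          _ = x * h.e zI * x⁻¹ * (x * a * x⁻¹) := by rw [h1]; group⟩
    · rintro ⟨h1, h2⟩
      exact ⟨by
        calc a * h.e zI = x⁻¹ * (x * a * x⁻¹ * (x * h.e zI * x⁻¹)) * x := by group
          _ = h.e zI * a := by rw [h2]; group, by
        calc a * (x⁻¹ * h.e zI * x) = x⁻¹ * (x * a * x⁻¹ * h.e zI) * x := by group
          _ = x⁻¹ * h.e zI * x * a := by rw [h1]; group⟩
  have hcl : cl j = cl i := by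
    obtain ⟨-, a2, a3, a4⟩ := cent_count hi
    obtain ⟨b1, b2, b3, b4⟩ := cent_count hj
    have hj1 : cl j ≠ 1 := fun e => hjne ((cl_spec hj).2.2.1 e)
    rcases hc with e | e | e <;> rcases hj4 with e' | e' | e' | e'
    all_goals first
      | exact absurd e' hj1
      | omega
      | (exfalso; first
          | (have := a2 e; first | have := b3 e' | have := b4 e'; omega)
          | (have := a3 e; first | have := b2 e' | have := b4 e'; omega)
          | (have := a4 e; first | have := b2 e' | have := b3 e'; omega))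
  obtain ⟨l, hl, hle⟩ : ∃ l < 192, cj l j = i := by
    have key : ∀ {r : ℕ}, (∃ k < 192, cj k j = r) → (∃ k < 192, cj k i = r) → ∃ l < 192, cj l j = i := by
      rintro r ⟨k, hk, e1⟩ ⟨k', hk', e2⟩
      have hki := (iL_spec hk').1
      refine ⟨mL (iL k') k, mL_lt hki hk, h.inj _ (cj_lt (mL_lt hki hk) hj) i hi ?_⟩
      rw [← h.conj_e (mL_lt hki hk) hj, h.mul _ hki _ hk, h.e_inv hk']
      have f1 : h.e k * h.e j * (h.e k)⁻¹ = h.e r := by rw [h.conj_e hk hj, e1]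
      have f2 : h.e k' * h.e i * (h.e k')⁻¹ = h.e r := by rw [h.conj_e hk' hi, e2]
      calc (h.e k')⁻¹ * h.e k * h.e j * ((h.e k')⁻¹ * h.e k)⁻¹
          = (h.e k')⁻¹ * (h.e k * h.e j * (h.e k)⁻¹) * h.e k' := by group
        _ = h.e i := by rw [f1, ← f2]; group
    rcases hc with e | e | e
    · exact key ((rep_spec hj).1 (hcl.trans e)) ((rep_spec hi).1 e)
    · exact key ((rep_spec hj).2.1 (hcl.trans e)) ((rep_spec hi).2.1 e)
    · exact key ((rep_spec hj).2.2 (hcl.trans e)) ((rep_spec hi).2.2 e)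
  have hl' : h.e l * h.e j * (h.e l)⁻¹ = h.e i := by rw [h.conj_e hl hj, hle]
  have hlz := h.e_comm_z hl
  refine ⟨x * (h.e l)⁻¹, ?_, ?_⟩
  · calc x * (h.e l)⁻¹ * h.e zI * (x * (h.e l)⁻¹)⁻¹
        = x * ((h.e l)⁻¹ * (h.e zI * h.e l)) * x⁻¹ := by group
      _ = h.e i := by rw [← hlz, inv_mul_cancel_left, hx]
  · calc x * (h.e l)⁻¹ * h.e i * (x * (h.e l)⁻¹)⁻¹ = x * h.e j * x⁻¹ := by rw [← hl']; group
      _ = h.e zI := by rw [hje]; group

/-- `w` is not conjugate to `z`. -/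
theorem w_not_conj : ¬ IsConj (h.e wI) (h.e zI) := by
  intro hc
  obtain ⟨k, hk1, hk2⟩ := h.swap const_lt.2.2.2.1 (Or.inr (Or.inl consts_ok.2.2.2.1)) hc.symm
  obtain ⟨hR, -, -, hsq, hroot, -⟩ := cent_w_ok
  simp only [List.all_eq_true, List.mem_range, beq_iff_eq, List.contains_eq_mem] at hR
  simp only [List.any_eq_true, beq_iff_eq] at hroot
  simp only [List.all_eq_true, Bool.not_eq_true', beq_eq_false_iff_ne] at hsq
  obtain ⟨r, hr, hre⟩ := hroot
  have hr192 : r < 192 := by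
    have : ∀ r ∈ RI, r < 192 := by decide
    exact this r hr
  have hrw : h.e r * h.e wI = h.e wI * h.e r :=
    (h.com_iff hr192 const_lt.2.2.2.1).2 ((Bool.eq_iff_iff.1 (by
      have := hR r hr192; exact this)).1 (by simp [hr]))
  set r' := k * h.e r * k⁻¹ with hr'
  have h1 : r' * h.e zI = h.e zI * r' := by
    rw [hr', ← hk2]
    calc k * h.e r * k⁻¹ * (k * h.e wI * k⁻¹) = k * (h.e r * h.e wI) * k⁻¹ := by group
      _ = k * h.e wI * k⁻¹ * (k * h.e r * k⁻¹) := by rw [hrw]; group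
  have h2 : r' * h.e wI = h.e wI * r' := by
    rw [hr', ← hk1]
    calc k * h.e r * k⁻¹ * (k * h.e zI * k⁻¹) = k * (h.e r * h.e zI) * k⁻¹ := by group
      _ = k * h.e zI * k⁻¹ * (k * h.e r * k⁻¹) := by rw [h.e_comm_z hr192]; group
  obtain ⟨j, hj, hje⟩ := h.mem_cent h1
  have hjR : j ∈ RI := by
    have := hR j hj
    rw [← hje] at h2
    rw [(h.com_iff hj const_lt.2.2.2.1).1 h2] at this
    simpa using this
  refine hsq j hjR (h.inj _ (mL_lt hj hj) _ const_lt.2.2.2.1 ?_)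
  rw [h.mul j hj j hj, hje, hr', ← hk1, ← hre, h.mul r hr192 r hr192]
  group

end Setting

end Cfsg.Agent.Invol.M12
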