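import Cfsg.Agent.Lib.Invol.M12.Local

/-! The outer involutions of the table are conjugate to `z`. -/

set_option autoImplicit false
set_option linter.unusedSectionVars false
set_option linter.style.haveILetI false

namespace Cfsg.Agent.Invol.M12

variable {G : Type*} [Group G] (h : Setting G)

theorem card_pair_conj [Finite G] (g x y : G) :
    Nat.card {a : G // a * x = x * a ∧ a * y = y * a} =
      Nat.card {a : G // a * (g * x * g⁻¹) = g * x * g⁻¹ * a ∧ a * (g * y * g⁻¹) = g * y * g⁻¹ * a} :=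
  Nat.card_congr ((MulAut.conj g).toEquiv.subtypeEquiv fun a => by
    show _ ↔ (MulAut.conj g a) * MulAut.conj g x = MulAut.conj g x * MulAut.conj g a ∧
      (MulAut.conj g a) * MulAut.conj g y = MulAut.conj g y * MulAut.conj g a
    simp only [← map_mul, (MulAut.conj g).injective.eq_iff])

namespace Setting

theorem small_case [Finite G] (hv : IsConj (h.e zI) (h.e vI)) (hno : ¬ IsConj (h.e zI) (h.e oI)) :
    Nat.card G = 1344 ∧ ∀ x, IsConj (h.e zI) x → ∃ i < 192, isZ false (cl i) = true ∧ h.e i = x := by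
  haveI : Fact (Nat.Prime 2) := ⟨Nat.prime_two⟩
  have hw := h.w_not_conj
  obtain ⟨g, gz, gv, g3⟩ := h.exists_rot hv
  have r : Rot h g := ⟨gz, gv, g3⟩
  have hB : false = true ↔ IsConj (h.e zI) (h.e oI) := ⟨fun e => absurd e (by simp), fun e => absurd e hno⟩
  obtain ⟨i0, hi0, i, hi, j, hj, hauto, himg⟩ := r.exists_img false hB hv hw
  have hA := caseA_ok
  simp only [List.all_eq_true, Bool.or_eq_true, Bool.not_eq_true', List.mem_range, Bool.and_eq_true, beq_iff_eq,
    beq_eq_false_iff_ne] at hA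
  have hA' := (hA i0 hi0 i hi j hj).resolve_left (by simp [hauto]) wM (by decide)
  have hwM : mi wM = wI := m_ok.2.2.2.2.2.2.1
  rw [hwM] at hA'
  obtain ⟨h4, h4'⟩ := hA'.resolve_left (fun e => e consts_ok.2.2.2.1)
  obtain ⟨hl1, he1⟩ := himg wM (by decide)
  obtain ⟨hl2, he2⟩ := himg _ hl1
  rw [hwM] at he1
  have hwo : IsConj (h.e wI) (h.e oI) :=
    (isConj_iff.2 ⟨g, he1.symm⟩).trans ((h.isConj_rep (mi_spec hl1).1).2.2.2 h4)
  have hz : ∀ i < 192, isZ false (cl i) = true ↔ IsConj (h.e zI) (h.e i) := fun i hi => h.cls_z false hB hv hi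
  have hW : ∀ i < 192, isW false (cl i) = true ↔ IsConj (h.e wI) (h.e i) := fun i hi =>
    h.cls_w false hB hv (fun _ => hwo) hi
  -- the centralisers of `⟨w, v⟩` and `⟨w, vz⟩`
  have hc8 : ∀ {k : ℕ}, k < 192 → cl k = 4 → Nat.card {a : G // a * h.e zI = h.e zI * a ∧ a * h.e k = h.e k * a} = 8 :=
    fun {k} hk hc => (h.card_cent hk).trans ((cent_count hk).2.2.2 hc)
  have hvz8 : Nat.card {a : G // a * h.e vzI = h.e vzI * a ∧ a * h.e wI = h.e wI * a} = 8 := by
    rw [card_pair_conj g, r.gvz, ← he1]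
    exact hc8 (mi_spec hl1).1 h4
  have hv8 : Nat.card {a : G // a * h.e vI = h.e vI * a ∧ a * h.e wI = h.e wI * a} = 8 := by
    rw [card_pair_conj g, r.gv, card_pair_conj g, r.gvz, ← he1, ← he2]
    exact hc8 (mi_spec hl2).1 h4'
  have hz16 : Nat.card {a : G // a * h.e zI = h.e zI * a ∧ a * h.e wI = h.e wI * a} = 16 :=
    (h.card_cent const_lt.2.2.2.1).trans ((cent_count const_lt.2.2.2.1).2.2.1 consts_ok.2.2.2.1)
  -- `z` is isolated in `C(w)`
  obtain ⟨P, hP⟩ := RW_sylow h hv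
  have hvw : h.e vI * h.e wI = h.e wI * h.e vI := (h.com_iff const_lt.2.1 const_lt.2.2.2.1).2 consts_ok.2.2.2.2.2.2.2.2.2.2.2.1
  have hzw : h.e zI * h.e wI = h.e wI * h.e zI := (h.e_comm_z const_lt.2.2.2.1).symm
  set zK : CW h := ⟨h.e zI, (mem_CW h).2 hzw⟩ with hzK
  have hiso : ∀ k : CW h, k * zK * k⁻¹ ∈ (P : Subgroup (CW h)) → k * zK * k⁻¹ = zK := by
    intro k hk
    rw [hP, Subgroup.mem_subgroupOf, mem_RW] at hk
    obtain ⟨i, hi, hie⟩ := hk
    have hil := RI_lt i hi
    have hcl : cl i = 1 ∨ cl i = 2 ∨ cl i = 4 := by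
      have := (hz i hil).2 (isConj_iff.2 ⟨(k : G), by simpa using hie.symm⟩)
      simp only [isZ, Bool.or_eq_true, Bool.and_eq_true, beq_iff_eq] at this
      omega
    have hlast := cent_w_ok.2.2.2.2.2
    simp only [List.all_eq_true, Bool.or_eq_true, Bool.not_eq_true', beq_iff_eq, Bool.or_eq_false_iff,
      beq_eq_false_iff_ne] at hlast
    have hne : ∀ x : G, x ∈ ({h.e vI, h.e vzI} : Set G) → (k : G) * h.e zI * (k : G)⁻¹ ≠ x := by
      intro x hx e
      have h8 : Nat.card {a : G // a * x = x * a ∧ a * h.e wI = h.e wI * a} = 8 := by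
        rcases hx with rfl | rfl
        exacts [hv8, hvz8]
      have h16 := hz16
      rw [card_pair_conj (k : G), e, show (k : G) * h.e wI * (k : G)⁻¹ = h.e wI from
        mul_inv_eq_iff_eq_mul.2 ((mem_CW h).1 k.2)] at h16
      omega
    have hie' : h.e i = (k : G) * h.e zI * (k : G)⁻¹ := by simpa using hie
    rcases hlast i hi with ((e | e) | e) | e
    · omega
    · subst e; exact Subtype.ext (by simpa using hie'.symm)
    · subst e; exact absurd hie'.symm (hne _ (Set.mem_insert _ _))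
    · subst e; exact absurd hie'.symm (hne _ (Set.mem_insert_of_mem _ rfl))
  obtain ⟨N, hN, hodd, hcomm⟩ := Cfsg.Agent.S0215.result P zK
    (by rw [← Subgroup.orderOf_coe]; exact h.ord_z) (by
      rw [← hzK] at *
      show zK ∈ (P : Subgroup (CW h))
      rw [hP, Subgroup.mem_subgroupOf]
      exact (Subgroup.mem_inf.2 ⟨Subgroup.mem_centralizer_singleton_iff.2 rfl, zK.2⟩)) hiso
  -- the odd normal subgroup is trivial
  set N' := N.map (CW h).subtype with hN'
  have hN'le : N' ≤ CW h := Subgroup.map_subtype_le _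
  have hodd' : Odd (Nat.card N') := by
    rwa [hN', Nat.card_congr (N.equivMapOfInjective _ Subtype.coe_injective).symm.toEquiv]
  have hnorm : ∀ u : G, u ∈ CW h → ∀ n ∈ N', u * n * u⁻¹ ∈ N' := by
    rintro u hu _ ⟨n, hn, rfl⟩
    exact ⟨_, hN.conj_mem n hn ⟨u, hu⟩, rfl⟩
  have hfix : ∀ x : G, (∀ T : Subgroup G, (∀ a ∈ T, a * x = x * a ∧ a * h.e wI = h.e wI * a) → Nat.card T ∣ 16) →
      ∀ n ∈ N', x * n * x⁻¹ = n → n = 1 := by
    intro x hx n hn e
    have hd := hx (Subgroup.zpowers n ⊓ N') (fun a ha => ⟨by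
      obtain ⟨k, rfl⟩ := (Subgroup.mem_inf.1 ha).1
      exact ((show Commute n x from (mul_inv_eq_iff_eq_mul.1 e).symm).zpow_left k).eq,
      (mem_CW h).1 (hN'le (Subgroup.mem_inf.1 ha).2)⟩)
    have hd' : orderOf n ∣ 16 := by
      rw [inf_eq_left.2 (by simpa using hn), Nat.card_zpowers] at hd
      exact hd
    have hd2 : orderOf n ∣ Nat.card N' := by
      rw [← Nat.card_zpowers]; exact Subgroup.card_dvd_of_le (by simpa using hn)
    have hco : Nat.Coprime 16 (Nat.card N') :=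
      Nat.Coprime.pow_left 4 ((Nat.Prime.coprime_iff_not_dvd Nat.prime_two).2 fun h2 => by
        obtain ⟨a, ha⟩ := hodd'; omega)
    exact orderOf_eq_one_iff.1 (Nat.eq_one_of_dvd_coprimes hco hd' hd2)
  have hdvd : ∀ (x : G) (m : ℕ), Nat.card {a : G // a * x = x * a ∧ a * h.e wI = h.e wI * a} = m → m ∣ 16 →
      ∀ T : Subgroup G, (∀ a ∈ T, a * x = x * a ∧ a * h.e wI = h.e wI * a) → Nat.card T ∣ 16 := by
    intro x m hm hm16 T hT
    refine dvd_trans ?_ hm16
    have hle : T ≤ Subgroup.centralizer ({x} : Set G) ⊓ CW h := fun a ha => Subgroup.mem_inf.2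
      ⟨Subgroup.mem_centralizer_singleton_iff.2 (hT a ha).1, (mem_CW h).2 (hT a ha).2⟩
    refine (Subgroup.card_dvd_of_le hle).trans (dvd_of_eq ?_)
    rw [← hm]
    exact Nat.card_congr (Equiv.subtypeEquivRight fun a => by
      simp [Subgroup.mem_inf, Subgroup.mem_centralizer_singleton_iff])
  have hsq : ∀ {u : ℕ}, u < 192 → (cl u = 1 ∨ cl u = 2 ∨ cl u = 3 ∨ cl u = 4) → h.e u * h.e u = 1 := fun hu hc =>
    (Cfsg.Agent.Invol.orderOf_two_iff.1 ((h.sq_iff hu).2 hc)).1
  have hvzw : h.e vzI * h.e wI = h.e wI * h.e vzI :=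
    (Rot.commute_vz (h := h) hzw.symm hvw.symm).symm
  have iz := inverts h.z_sq (hnorm _ zK.2) hodd' (hfix _ (hdvd _ _ hz16 dvd_rfl))
  have iv := inverts (hsq const_lt.2.1 (Or.inr (Or.inl consts_ok.2.1))) (hnorm _ ((mem_CW h).2 hvw)) hodd'
    (hfix _ (hdvd _ _ hv8 ⟨2, rfl⟩))
  have ivz := inverts (hsq const_lt.2.2.1 (Or.inr (Or.inl consts_ok.2.2.1))) (hnorm _ ((mem_CW h).2 hvzw)) hodd'
    (hfix _ (hdvd _ _ hvz8 ⟨2, rfl⟩))
  have hN1 : ∀ n ∈ N', n = 1 := by
    intro n hn
    have h2 : h.e vzI * n * (h.e vzI)⁻¹ = n := by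
      rw [h.vz_eq.1]
      calc h.e vI * h.e zI * n * (h.e vI * h.e zI)⁻¹ = h.e vI * (h.e zI * n * (h.e zI)⁻¹) * (h.e vI)⁻¹ := by group
        _ = n := by rw [iz n hn, iv _ (inv_mem hn), inv_inv]
    exact hfix _ (hdvd _ _ hvz8 ⟨2, rfl⟩) n hn h2
  -- so the centraliser of `w` has order 16
  have hCW : ∀ x, x ∈ CW h → x ∈ RW h := by
    intro x hx
    have h1 := hN1 _ ⟨_, hcomm ⟨x, hx⟩, rfl⟩
    have h1' : h.e zI * x * (h.e zI)⁻¹ * x⁻¹ = 1 := by simpa using h1
    rw [mul_inv_eq_one, mul_inv_eq_iff_eq_mul] at h1'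
    exact Subgroup.mem_inf.2 ⟨Subgroup.mem_centralizer_singleton_iff.2 h1'.symm, hx⟩
  have hcard16 : Nat.card (CW h) = 16 := by
    rw [le_antisymm hCW (RW_le h), card_RW]
  have hzw' : ¬ IsConj (h.e zI) (h.e wI) := fun e => hw e.symm
  have hGcard : Nat.card G = 1344 := by
    rw [S3313.order_formula (h.e zI) (h.e wI) h.ord_z (ord_w h) hzw' (h.two_classes hv (Or.inr hwo)),
      hcard16, h.card_C, h.aCount_eq false hz hW (fun i hi => List.mem_range.1 hi) List.nodup_range const_lt.1 h.ord_z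
        (fun x => by rw [h.cen]; simp [List.mem_range]),
      h.aCount_eq false hz hW RI_lt cent_w_ok.2.2.1 const_lt.2.2.2.1 (ord_w h)
        (fun x => ⟨fun hx => (mem_RW h).1 (hCW x ((mem_CW h).2 hx)), fun hx => (mem_CW h).1 (RW_le h ((mem_RW h).2 hx))⟩),
      pairs_ok.1, pairs_ok.2.2]
  -- the seven conjugates of `z` commute with it
  have h7 : Nat.card {x : G // IsConj (h.e zI) x} = 7 := by
    have := S3313.card_class_mul (h.e zI)
    rw [h.card_C, hGcard] at this
    omega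
  have hl7 : Nat.card {x : G // ∃ i ∈ (List.range 192).filter (fun i => isZ false (cl i)), h.e i = x} = 7 := by
    refine (h.card_image (l := (List.range 192).filter (fun i => isZ false (cl i)))
      (fun i hi => List.mem_range.1 (List.mem_filter.1 hi).1) (List.nodup_range.filter _)
      (A := {x | ∃ i ∈ (List.range 192).filter (fun i => isZ false (cl i)), h.e i = x}) fun x => Iff.rfl).trans ?_
    rw [← List.countP_eq_length_filter]
    exact count_cls.1
  refine ⟨hGcard, fun x hx => ?_⟩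
  have hsub : {x | ∃ i ∈ (List.range 192).filter (fun i => isZ false (cl i)), h.e i = x} ⊆ {x | IsConj (h.e zI) x} := by
    rintro _ ⟨i, hi, rfl⟩
    obtain ⟨hil, hic⟩ := List.mem_filter.1 hi
    exact (hz i (List.mem_range.1 hil)).1 hic
  have heq := Set.eq_of_subset_of_ncard_le hsub (by
    rw [← Nat.card_coe_set_eq, ← Nat.card_coe_set_eq]
    exact (h7.trans hl7.symm).le)
  obtain ⟨i, hi, rfl⟩ : x ∈ {x | ∃ i ∈ (List.range 192).filter (fun i => isZ false (cl i)), h.e i = x} := heq ▸ hx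
  exact ⟨i, List.mem_range.1 (List.mem_filter.1 hi).1, (List.mem_filter.1 hi).2, rfl⟩

theorem o_conj [Finite G] [IsSimpleGroup G] (hna : ¬ IsMulCommutative G) : IsConj (h.e zI) (h.e oI) := by
  by_contra hno
  have hall : ∀ x, IsConj (h.e zI) x → x * h.e zI = h.e zI * x := fun x hx => by
    obtain ⟨i, hi, -, rfl⟩ := (h.small_case (h.v_conj hna) hno).2 x hx
    exact h.e_comm_z hi
  have htop : Subgroup.normalClosure ({h.e zI} : Set G) = ⊤ :=
    Subgroup.normalClosure_normal.eq_bot_or_eq_top.resolve_left fun e =>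
      h.z_ne (Subgroup.mem_bot.1 (e ▸ Subgroup.subset_normalClosure rfl))
  have hle : Subgroup.normalClosure ({h.e zI} : Set G) ≤ Subgroup.centralizer ({h.e zI} : Set G) :=
    (Subgroup.closure_le _).2 fun x hx => by
      obtain ⟨a, rfl, hax⟩ := Group.mem_conjugatesOfSet_iff.1 hx
      exact Subgroup.mem_centralizer_singleton_iff.2 (hall x hax)
  have hzc : h.e zI ∈ Subgroup.center G := Subgroup.mem_center_iff.2 fun x =>
    Subgroup.mem_centralizer_singleton_iff.1 (hle (htop ▸ Subgroup.mem_top x))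
  rcases (inferInstance : (Subgroup.center G).Normal).eq_bot_or_eq_top with e | e
  · exact h.z_ne (Subgroup.mem_bot.1 (e ▸ hzc))
  · exact hna ⟨⟨fun a b => Subgroup.mem_center_iff.1 (e ▸ Subgroup.mem_top b) a⟩⟩

end Setting

end Cfsg.Agent.Invol.M12
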