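import Cfsg.Agent.Lib.Invol.M12.CaseA
import Cfsg.Agent.Lib.Invol.M12.Half
import Cfsg.Agent.Lib.Invol.V4Order

/-! The structure of the centraliser of `w`. -/

set_option autoImplicit false
set_option linter.unusedSectionVars false
set_option linter.style.haveILetI false

namespace Cfsg.Agent.Invol.M12

/-- the dihedral group `⟨v, b⟩` -/
def QI : List ℕ := [0, 3, 5, 18, 24, 62, 78, 144]

/-- the four-group `⟨z, v⟩` -/
def VI : List ℕ := [0, 3, 78, 144]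

theorem qv_ok : (∀ i ∈ QI, i < 192) ∧ (∀ i ∈ VI, i < 192) ∧ (∀ i ∈ QI, ∀ j ∈ QI, mL i (iL j) ∈ QI) ∧
    (∀ i ∈ VI, ∀ j ∈ VI, mL i (iL j) ∈ VI) ∧ QI.Nodup ∧ VI.Nodup ∧ (∀ i ∈ QI, i ∈ RI) ∧ wI ∉ QI ∧
    (∀ r ∈ RI, ∀ i ∈ VI, cj r i ∈ VI) ∧ (∀ i ∈ RI, (cl i = 1 ∨ cl i = 2) → i ∈ VI) ∧
    (∀ i ∈ VI, i = 0 ∨ i = zI ∨ i = vI ∨ i = vzI) ∧ bI ∈ RI ∧ bwI2 ∈ RI ∧ wI ∈ RI ∧
    cl (mL zI wI) = 3 ∧ cl (mL vI wI) = 3 ∧ cl (mL vzI wI) = 3 ∧ (∀ i ∈ RI, cl i = 4 → False) := by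
  decide +kernel

variable {G : Type*} [Group G] (h : Setting G)

/-- the dihedral group -/
abbrev QS : Subgroup G := listSub h QI qv_ok.1 (by decide) qv_ok.2.2.1

/-- the four-group -/
abbrev VS : Subgroup G := listSub h VI qv_ok.2.1 (by decide) qv_ok.2.2.2.1

theorem mem_VS {x : G} : x ∈ VS h ↔ x = 1 ∨ x = h.e zI ∨ x = h.e vI ∨ x = h.e vzI := by
  rw [mem_listSub]
  constructor
  · rintro ⟨i, hi, rfl⟩
    rcases qv_ok.2.2.2.2.2.2.2.2.2.2.1 i hi with rfl | rfl | rfl | rfl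
    exacts [Or.inl h.e_zero, Or.inr (Or.inl rfl), Or.inr (Or.inr (Or.inl rfl)), Or.inr (Or.inr (Or.inr rfl))]
  · rintro (rfl | rfl | rfl | rfl)
    exacts [⟨0, by decide, h.e_zero⟩, ⟨zI, by decide, rfl⟩, ⟨vI, by decide, rfl⟩, ⟨vzI, by decide, rfl⟩]

theorem VS_le_RW : VS h ≤ RW h := by
  rintro x ⟨i, hi, rfl⟩
  exact (mem_RW h).2 ⟨i, (by decide : ∀ i ∈ VI, i ∈ RI) i hi, rfl⟩

theorem RW_norm_VS {r : G} (hr : r ∈ RW h) {x : G} (hx : x ∈ VS h) : r * x * r⁻¹ ∈ VS h := by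
  obtain ⟨i, hi, rfl⟩ := (mem_RW h).1 hr
  obtain ⟨j, hj, rfl⟩ := hx
  exact ⟨_, qv_ok.2.2.2.2.2.2.2.2.1 i hi j hj, (h.conj_e (RI_lt i hi) (qv_ok.2.1 j hj)).symm⟩

/-- An element of order three in the centraliser of `w`, with the simple subgroup. -/
structure WCfg (g : G) (K : Subgroup G) : Prop where
  rot : Rot h g
  gw : g * h.e wI = h.e wI * g
  gK : g ∈ K
  le : K ≤ CW h
  norm : ∀ x ∈ CW h, ∀ y ∈ K, x * y * x⁻¹ ∈ K
  VK : VS h ≤ K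
  cap : ∀ x ∈ K, x ∈ RW h → x ∈ VS h
  bK : h.e bI ∉ K
  bwK : h.e bwI2 ∉ K
  card_CW : Nat.card (CW h) = 4 * Nat.card K

namespace Rot

variable {h} {g : G}

theorem V_conj (r : Rot h g) {x : G} (hx : x ∈ VS h) : g * x * g⁻¹ ∈ VS h := by
  rcases (mem_VS h).1 hx with rfl | rfl | rfl | rfl
  · simpa using one_mem (VS h)
  · exact (mem_VS h).2 (Or.inr (Or.inr (Or.inl r.gz)))
  · exact (mem_VS h).2 (Or.inr (Or.inr (Or.inr r.gv)))
  · exact (mem_VS h).2 (Or.inr (Or.inl r.gvz))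

end Rot

namespace Setting

/-- A rotation fixing `w`. -/
theorem exists_rot_w [Finite G] (hv : IsConj (h.e zI) (h.e vI)) (ho : IsConj (h.e zI) (h.e oI)) :
    ∃ g : G, Rot h g ∧ g * h.e wI = h.e wI * g := by
  have hB : true = true ↔ IsConj (h.e zI) (h.e oI) := ⟨fun _ => ho, fun _ => rfl⟩
  obtain ⟨g, gz, gv, g3⟩ := h.exists_rot hv
  have r : Rot h g := ⟨gz, gv, g3⟩
  obtain ⟨i0, hi0, i, hi, j, hj, hauto, himg⟩ := r.exists_img true hB hv h.w_not_conj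
  have hB' := caseB_ok
  simp only [List.all_eq_true, Bool.or_eq_true, Bool.not_eq_true', List.any_eq_true, List.mem_range,
    Bool.and_eq_true, beq_iff_eq] at hB'
  obtain ⟨a, ha, hac, hafix⟩ := (hB' i0 hi0 i hi j hj).resolve_left (by simp [hauto])
  have hmv := move_ok
  simp only [List.all_eq_true, List.any_eq_true, List.mem_range, Bool.or_eq_true, Bool.not_eq_true',
    beq_iff_eq, beq_eq_false_iff_ne] at hmv
  obtain ⟨m, hm, hmw⟩ := (hmv a ha).resolve_left (fun e => e hac)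
  obtain ⟨hml, hmc, -, -⟩ := mi_spec hm
  set k := h.e (mi m) with hk
  have hkz : k * h.e zI = h.e zI * k := h.e_comm_z hml
  have hkv : k * h.e vI = h.e vI * k := (h.com_iff hml const_lt.2.1).2 hmc
  have hkvz : k * h.e vzI = h.e vzI * k := Rot.commute_vz (h := h) hkz hkv
  have hga : g * h.e (mi a) * g⁻¹ = h.e (mi a) := by
    have := (himg a ha).2
    rw [hafix] at this
    exact this.symm
  have hkw : k * h.e (mi a) * k⁻¹ = h.e wI := by rw [hk, h.conj_e hml (mi_spec ha).1, hmw]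
  have key : ∀ {x y : G}, k * x = x * k → k * y = y * k → g * x * g⁻¹ = y →
      k * g * k⁻¹ * x * (k * g * k⁻¹)⁻¹ = y := fun {x y} h1 h2 h3 => by
    calc k * g * k⁻¹ * x * (k * g * k⁻¹)⁻¹ = k * g * (k⁻¹ * (x * k)) * g⁻¹ * k⁻¹ := by group
      _ = k * (g * x * g⁻¹) * k⁻¹ := by rw [← h1]; group
      _ = y := by rw [h3, h2, mul_inv_cancel_right]
  refine ⟨k * g * k⁻¹, ⟨key hkz hkv gz, key hkv hkvz gv, ?_⟩, ?_⟩
  · calc k * g * k⁻¹ * (k * g * k⁻¹) * (k * g * k⁻¹) = k * (g * g * g) * k⁻¹ := by group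
      _ = 1 := by rw [g3]; group
  · refine mul_inv_eq_iff_eq_mul.1 ?_
    rw [← hkw]
    calc k * g * k⁻¹ * (k * h.e (mi a) * k⁻¹) * (k * g * k⁻¹)⁻¹ = k * (g * h.e (mi a) * g⁻¹) * k⁻¹ := by group
      _ = k * h.e (mi a) * k⁻¹ := by rw [hga]

set_option maxHeartbeats 800000 in
/-- The structure of `C(w)`. -/
theorem exists_wcfg [Finite G] (hv : IsConj (h.e zI) (h.e vI)) (ho : IsConj (h.e zI) (h.e oI)) :
    ∃ (g : G) (K : Subgroup G), WCfg h g K := by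
  haveI : Fact (Nat.Prime 2) := ⟨Nat.prime_two⟩
  obtain ⟨g, r, gw⟩ := h.exists_rot_w hv ho
  have hgC : g ∈ CW h := (mem_CW h).2 gw
  obtain ⟨P, hP⟩ := RW_sylow h hv
  have hRmem : ∀ i ∈ RI, h.e i ∈ RW h := fun i hi => (mem_RW h).2 ⟨i, hi, rfl⟩
  have hQR : QS h ≤ RW h := by
    rintro x ⟨i, hi, rfl⟩
    exact hRmem i (qv_ok.2.2.2.2.2.2.1 i hi)
  have hwR : h.e wI ∈ RW h := hRmem _ qv_ok.2.2.2.2.2.2.2.2.2.2.2.2.2.1
  have hQc : Nat.card (QS h) = 8 := card_listSub h QI _ _ _ qv_ok.2.2.2.2.1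
  have hVc : Nat.card (VS h) = 4 := card_listSub h VI _ _ _ qv_ok.2.2.2.2.2.1
  have hwQ : h.e wI ∉ QS h := by
    rintro ⟨i, hi, e⟩
    exact qv_ok.2.2.2.2.2.2.2.1 (h.inj i (qv_ok.1 i hi) _ const_lt.2.2.2.1 e ▸ hi)
  obtain ⟨M, hM⟩ := exists_half P hP (RW_le h) hQR (by rw [card_RW, hQc]) (ord_w h) hwR hwQ fun k hk hkQ => hwQ (by
    rwa [show k * h.e wI * k⁻¹ = h.e wI from mul_inv_eq_iff_eq_mul.2 ((mem_CW h).1 hk)] at hkQ)
  have hgM : g ∈ M := hM.cube hgC r.g3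
  have hzC : h.e zI ∈ CW h := RW_le h (VS_le_RW h ((mem_VS h).2 (Or.inr (Or.inl rfl))))
  have hvC : h.e vI ∈ CW h := RW_le h (VS_le_RW h ((mem_VS h).2 (Or.inr (Or.inr (Or.inl rfl)))))
  have hV : ∀ {K' M' : Subgroup G} {u : G}, Half K' M' u → g ∈ K' → VS h ≤ K' → VS h ≤ M' := by
    intro K' M' u hM' hg hVK' x hx
    have z1 : h.e zI ∈ K' := hVK' ((mem_VS h).2 (Or.inr (Or.inl rfl)))
    have v1 : h.e vI ∈ K' := hVK' ((mem_VS h).2 (Or.inr (Or.inr (Or.inl rfl))))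
    have hzM : h.e zI ∈ M' := by
      by_contra hz
      have hback : ∀ y, g * y * g⁻¹ ∈ M' → y ∈ M' := fun y hy => by
        have := hM'.norm g⁻¹ (inv_mem hg) _ hy
        rwa [show g⁻¹ * (g * y * g⁻¹) * g⁻¹⁻¹ = y by group] at this
      have hvn : h.e vI ∉ M' := fun e => hz (hback _ (r.gz.symm ▸ e))
      have hvz : h.e vzI ∈ M' := by
        rw [h.vz_eq.1]
        exact (hM'.mul_iff _ v1 _ z1).2 ⟨fun e => absurd e hvn, fun e => absurd e hz⟩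
      exact hvn (hback _ (r.gv.symm ▸ hvz))
    have hvM : h.e vI ∈ M' := r.gz ▸ hM'.norm g hg _ hzM
    have hvzM : h.e vzI ∈ M' := r.gv ▸ hM'.norm g hg _ hvM
    rcases (mem_VS h).1 hx with rfl | rfl | rfl | rfl
    exacts [one_mem _, hzM, hvM, hvzM]
  have hVC : VS h ≤ CW h := (VS_le_RW h).trans (RW_le h)
  have hVM : VS h ≤ M := hV hM hgC hVC
  -- the involution of the second class in `M`
  have hbw : h.e bwI2 = h.e bI * h.e wI := by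
    rw [← h.mul _ const_lt.2.2.2.2.2.1 _ const_lt.2.2.2.1, show mL bI wI = bwI2 from consts_ok.2.2.2.2.2.2.2.2.2.2.2.2.2.2.1]
  have hbR : h.e bI ∈ RW h := hRmem _ qv_ok.2.2.2.2.2.2.2.2.2.2.2.1
  have hbwR : h.e bwI2 ∈ RW h := hRmem _ qv_ok.2.2.2.2.2.2.2.2.2.2.2.2.1
  obtain ⟨b', hb'R, hb'M, hb'c, hb'2⟩ : ∃ b', b' ∈ RW h ∧ b' ∈ M ∧ IsConj (h.e wI) b' ∧ orderOf b' = 2 := by
    by_cases hb : h.e bI ∈ M
    · exact ⟨_, hbR, hb, ((h.isConj_rep const_lt.2.2.2.2.2.1).2.2.1 consts_ok.2.2.2.2.2.1).symm,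
        (h.sq_iff const_lt.2.2.2.2.2.1).2 (Or.inr (Or.inr (Or.inl consts_ok.2.2.2.2.2.1)))⟩
    · refine ⟨_, hbwR, ?_, ((h.isConj_rep (by decide)).2.2.1 consts_ok.2.2.2.2.2.2.2.1).symm,
        (h.sq_iff (by decide)).2 (Or.inr (Or.inr (Or.inl consts_ok.2.2.2.2.2.2.2.1)))⟩
      rw [hbw]
      exact (hM.mul_iff _ (RW_le h hbR) _ (RW_le h hwR)).2 ⟨fun e => absurd e hb, fun e => absurd e hM.u_not⟩
  have hVz : ∀ x ∈ VS h, x ≠ 1 → IsConj (h.e zI) x := fun x hx hx1 => by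
    rcases (mem_VS h).1 hx with rfl | rfl | rfl | rfl
    exacts [absurd rfl hx1, IsConj.refl _, hv, hv.trans (isConj_iff.2 ⟨g, r.gv⟩)]
  have hnotV : ∀ {x : G}, IsConj (h.e wI) x → x ∉ VS h := fun {x} hc hx => by
    by_cases hx1 : x = 1
    · subst hx1
      obtain ⟨c, hc⟩ := isConj_iff.1 hc
      rw [conj_eq_one_iff] at hc
      exact (Cfsg.Agent.Invol.orderOf_two_iff.1 (ord_w h)).2 hc
    · exact h.w_not_conj (hc.trans (hVz x hx hx1).symm)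
  have hRM : Nat.card (RW h ⊓ M : Subgroup G) = 8 := by
    have := hM.card_eq (RW_le h) hwR
    rw [card_RW] at this
    omega
  obtain ⟨m, hm, hCWm⟩ : ∃ m, Odd m ∧ Nat.card (CW h) = 16 * m := by
    refine ⟨(P : Subgroup (CW h)).index, Nat.not_even_iff_odd.1 fun e => P.not_dvd_index e.two_dvd, ?_⟩
    rw [← (P : Subgroup (CW h)).card_mul_index, hP, Nat.card_congr (Subgroup.subgroupOfEquivOfLe (RW_le h)).toEquiv,
      card_RW]
  have hMm : Nat.card M = Nat.card (RW h ⊓ M : Subgroup G) * m := by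
    have := hM.card_top
    rw [hRM]; omega
  obtain ⟨P1, hP1⟩ := sylow_of (inf_le_right : RW h ⊓ M ≤ M) (n := 3) (by rw [hRM]; norm_num) hMm hm
  obtain ⟨K, hK⟩ := exists_half P1 hP1 inf_le_right (le_inf (VS_le_RW h) hVM) (by rw [hRM, hVc]) hb'2
    (Subgroup.mem_inf.2 ⟨hb'R, hb'M⟩) (hnotV hb'c) fun k _ => hnotV (hb'c.trans (isConj_iff.2 ⟨k, rfl⟩))
  have hgK : g ∈ K := hK.cube hgM r.g3
  have hVK : VS h ≤ K := hV hK hgM hVM
  have hRK : Nat.card (RW h ⊓ M ⊓ K : Subgroup G) = 4 := by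
    have := hK.card_eq (inf_le_right : RW h ⊓ M ≤ M) (Subgroup.mem_inf.2 ⟨hb'R, hb'M⟩)
    rw [hRM] at this
    omega
  have hcap : RW h ⊓ M ⊓ K = VS h :=
    (Subgroup.eq_of_le_of_card_ge (le_inf (le_inf (VS_le_RW h) hVM) hVK) (by rw [hRK, hVc])).symm
  have hcap' : ∀ x ∈ K, x ∈ RW h → x ∈ VS h := fun x hx hxR =>
    hcap ▸ Subgroup.mem_inf.2 ⟨Subgroup.mem_inf.2 ⟨hxR, hK.le hx⟩, hx⟩
  have hbK : ∀ {i : ℕ}, i < 192 → cl i = 3 → i ∈ RI → h.e i ∉ K := fun {i} hi hc hiR e =>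
    hnotV ((h.isConj_rep hi).2.2.1 hc).symm (hcap' _ e (hRmem i hiR))
  refine ⟨g, K, r, gw, hgK, hK.le.trans hM.le, ?_, hVK, hcap', hbK const_lt.2.2.2.2.2.1 consts_ok.2.2.2.2.2.1
    qv_ok.2.2.2.2.2.2.2.2.2.2.2.1, hbK (by decide) consts_ok.2.2.2.2.2.2.2.1
    qv_ok.2.2.2.2.2.2.2.2.2.2.2.2.1, by have := hM.card_top; have := hK.card_top; omega⟩
  intro x hx y hy
  have hyC := hM.le (hK.le hy)
  by_cases hxM : x ∈ M
  · exact hK.norm x hxM y hy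
  · have hxw : x * h.e wI ∈ M :=
      (hM.mul_iff x hx _ (RW_le h hwR)).2 ⟨fun e => absurd e hxM, fun e => absurd e hM.u_not⟩
    have := hK.norm _ hxw y hy
    rwa [show x * h.e wI * y * (x * h.e wI)⁻¹ = x * y * x⁻¹ from by
      rw [mul_assoc x, ← (mem_CW h).1 hyC]; group] at this

end Setting

end Cfsg.Agent.Invol.M12
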