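import Cfsg.Agent.Lib.Invol.M12.Data

/-! Facts about the tables, checked by the kernel. -/

set_option autoImplicit false
set_option maxRecDepth 100000

namespace Cfsg.Agent.Invol.M12

/-- conjugation -/
def cj (k i : ℕ) : ℕ := mL (mL k i) (iL k)

/-- the two elements commute -/
def com (i j : ℕ) : Bool := mL i j == mL j i

/-- powers -/
def pwL (p : ℕ) : ℕ → ℕ
  | 0 => p
  | n + 1 => mL (pwL p n) p

/-- a power of the first element is the second -/
def powMem (p t : ℕ) : Bool := (List.range 8).any fun n => pwL p n == t

/-- the class of `z` if the outer involutions are fused with `z` or not -/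
def isZ (B : Bool) (c : ℕ) : Bool := c == 1 || c == 2 || (B && c == 4)

/-- the other class -/
def isW (B : Bool) (c : ℕ) : Bool := c == 3 || (!B && c == 4)

theorem lt_ok : ((List.range 192).all fun i => (List.range 192).all fun j => decide (mL i j < 192)) = true := by
  decide +kernel

theorem inv_ok : ((List.range 192).all fun i => decide (iL i < 192) && mL i (iL i) == 0) = true := by
  decide +kernel

theorem cls_ok : ((List.range 192).all fun i =>
    decide (cl i < 6) && ((cl i == 1 || cl i == 2 || cl i == 3 || cl i == 4) == (decide (i ≠ 0) && mL i i == 0)) &&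
      ((cl i == 1) == (i == zI))) = true := by
  decide +kernel

theorem orbit_ok : ((List.range 192).all fun i =>
    (!(cl i == 2) || (List.range 192).any fun k => cj k i == vI) &&
    (!(cl i == 3) || (List.range 192).any fun k => cj k i == wI) &&
    (!(cl i == 4) || (List.range 192).any fun k => cj k i == oI)) = true := by
  decide +kernel

theorem cent_ok : ((List.range 192).all fun i =>
    (!(cl i == 1) || (List.range 192).countP (com i) == 192) &&
    (!(cl i == 2) || (List.range 192).countP (com i) == 32) &&
    (!(cl i == 3) || (List.range 192).countP (com i) == 16) &&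
    (!(cl i == 4) || (List.range 192).countP (com i) == 8)) = true := by
  decide +kernel

theorem consts_ok : cl zI = 1 ∧ cl vI = 2 ∧ cl vzI = 2 ∧ cl wI = 3 ∧ cl oI = 4 ∧ cl bI = 3 ∧ cl bwI = 2 ∧
    cl bwI2 = 3 ∧ mL vI zI = vzI ∧ mL zI vI = vzI ∧ com zI vI = true ∧ com vI wI = true ∧ com vI oI = true ∧
      com bI wI = true ∧ mL bI wI = bwI2 ∧ cj bI vI = vzI ∧ lgen 1 = iL (lgen 0) ∧ com vI bI = false := by
  decide +kernel

theorem sylow_ok : (SI.all fun i => decide (i < 192) && SI.all fun j => SI.contains (mL i (iL j))) = true ∧
    SI.length = 64 ∧ SI.Nodup ∧ SI.contains zI = true ∧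
      (SI.all fun i => !(SI.all (com i)) || i == 0 || i == zI) = true ∧
        (SI.all fun i => !(isW true (cl i) || isW false (cl i)) || decide (SI.countP (com i) ≤ 16)) = true := by
  decide +kernel

theorem cent_w_ok : ((List.range 192).all fun i => RI.contains i == com i wI) = true ∧ RI.length = 16 ∧ RI.Nodup ∧
    (RI.all fun r => !(mL r r == wI)) = true ∧ (RI.any fun r => mL r r == zI) = true ∧
      (RI.all fun i => !(cl i == 1 || cl i == 2 || cl i == 4) || i == zI || i == vI || i == vzI) = true := by
  decide +kernel

theorem cent_o_ok : ((List.range 192).all fun p => !(com p oI && cl p == 3)) = true ∧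
    ((List.range 192).all fun p => (List.range 192).all fun q =>
      !(com p oI && cl p == 2 && com q oI && cl q == 2) || p == q || mL p q == zI) = true ∧
    ((List.range 192).any fun p => com p oI && cl p == 2) = true := by
  decide +kernel

theorem swap_ok : ∃ k < 192, cj k vI = vzI ∧ cj k vzI = vI := by decide +kernel

/-- the generators of the centraliser of `v` -/
def mgen : ℕ → ℕ
  | 0 => zM
  | 1 => vM
  | 2 => wM
  | 3 => oM
  | 4 => gamM
  | _ => 0

theorem m_ok : ((List.range 32).all fun a =>
    decide (mi a < 192) && com (mi a) vI && ((List.range 32).all fun b =>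
      decide (mM a b < 32) && mi (mM a b) == mL (mi a) (mi b) && (!(mi a == mi b) || a == b)) &&
        (a == 0 || (decide (parM a / 5 < a) && mM (parM a / 5) (mgen (parM a % 5)) == a))) = true ∧
    ((List.range 192).all fun i => !(com i vI) || (List.range 32).any fun a => mi a == i) = true ∧
    mi 0 = 0 ∧ mi zM = zI ∧ mi vM = vI ∧ mi vzM = vzI ∧ mi wM = wI ∧ mi oM = oI ∧ mi gamM = gamI ∧
      mi bwM = bwI ∧ mi 8 = aut oI ∧ aut bwI = bwI := by
  decide +kernel

/-- The image of an element under the map given by images of generators. -/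
def img (i0 i j : ℕ) : ℕ → ℕ → ℕ
  | 0, _ => 0
  | n + 1, a =>
    if a = 0 then 0
    else mM (img i0 i j n (parM a / 5))
      (match parM a % 5 with
        | 0 => vM
        | 1 => vzM
        | 2 => i0
        | 3 => i
        | _ => j)

/-- The tree reaches the identity within the fuel. -/
def reach : ℕ → ℕ → Bool
  | 0, a => a == 0
  | n + 1, a => a == 0 || reach n (parM a / 5)

theorem reach_ok : ((List.range 32).all (reach 6)) = true := by decide +kernel

theorem order_ok : ((List.range 192).all fun p => (List.range 8).any fun n => pwL p n == 0) = true := by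
  decide +kernel

/-- The images give an automorphism of order three respecting the classes. -/
def autoOk (B : Bool) (i0 i j : ℕ) : Bool :=
  let f := img i0 i j 6
  ((List.range 32).all fun a => isZ B (cl (mi a)) == isZ B (cl (mi (f a)))) &&
  ((List.range 32).all fun a => f (mM a zM) == mM (f a) vM && f (mM a vM) == mM (f a) vzM &&
    f (mM a wM) == mM (f a) i0 && f (mM a oM) == mM (f a) i && f (mM a gamM) == mM (f a) j) &&
  ((List.range 32).all fun a => f (f (f a)) == a)

/-- the involutions -/
def MInv : List ℕ := (List.range 32).filter fun a => decide (a ≠ 0) && mM a a == 0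

theorem caseA_ok : (MInv.all fun i0 => MInv.all fun i => MInv.all fun j => !(autoOk false i0 i j) ||
    (List.range 32).all fun a => !(cl (mi a) == 3) ||
      (cl (mi (img i0 i j 6 a)) == 4 && cl (mi (img i0 i j 6 (img i0 i j 6 a))) == 4)) = true := by
  decide +kernel

theorem caseB_ok : (MInv.all fun i0 => MInv.all fun i => MInv.all fun j => !(autoOk true i0 i j) ||
    (List.range 32).any fun a => cl (mi a) == 3 && img i0 i j 6 a == a) = true := by
  decide +kernel

theorem move_ok : ((List.range 32).all fun p => !(cl (mi p) == 3) ||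
    (List.range 32).any fun m => cj (mi m) (mi p) == wI) = true := by
  decide +kernel

/-- conjugation by `b` on the centraliser of `v` -/
def bM (a : ℕ) : ℕ :=
  [0, 1, 6, 3, 5, 4, 2, 7, 9, 8, 19, 21, 20, 14, 13, 17, 18, 15, 16, 10, 12, 11, 23, 22, 25, 24, 26, 27, 29,
    28, 30, 31].getD a 0

theorem bM_ok : ((List.range 32).all fun a => decide (bM a < 32) && mi (bM a) == cj bI (mi a)) = true := by
  decide +kernel

theorem cand_ok : (MInv.all fun i => MInv.all fun j =>
    !(autoOk true wM i j && (List.range 32).all fun a =>
      img wM i j 6 (img wM i j 6 a) == bM (img wM i j 6 (bM a))) ||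
    img wM i j 6 oM == bwM || img wM i j 6 8 == bwM) = true := by
  decide +kernel

theorem aut_ok : ((List.range 192).all fun i => decide (aut i < 192) &&
    ((List.range 192).all fun j => aut (mL i j) == mL (aut i) (aut j)) &&
      ((List.range 192).any fun j => aut j == i)) = true ∧
    aut zI = zI ∧ aut vI = vI ∧ aut wI = wI ∧ aut bI = bI ∧ aut yI = yI := by
  decide +kernel

/-- the pairs with central involution `t` -/
def pairs (B : Bool) (D : List ℕ) (t : ℕ) : List (ℕ × ℕ) :=
  (D.flatMap fun i => D.map fun j => (i, j)).filter fun p =>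
    isZ B (cl p.1) && isW B (cl p.2) && powMem (mL p.1 p.2) t

theorem pairs_ok : (pairs false (List.range 192) zI).length = 48 ∧ (pairs true (List.range 192) zI).length = 240 ∧
    (pairs false RI wI).length = 3 := by
  decide +kernel

theorem count_cls : (List.range 192).countP (fun i => isZ false (cl i)) = 7 ∧
    (List.range 192).countP (fun i => isZ true (cl i)) = 31 := by
  decide +kernel

theorem orbit_o : ∃ ks : List ℕ, ks.length = 24 ∧ (∀ k ∈ ks, k < 192) ∧ (ks.map fun k => cj k oI).Nodup := by
  refine ⟨(List.range 192).filter fun k => (List.range k).all fun j => !(cj j oI == cj k oI), ?_, ?_, ?_⟩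
  · decide +kernel
  · exact fun k hk => List.mem_range.1 (List.mem_filter.1 hk).1
  · decide +kernel

theorem wit_ok : mL (mL oI 82) (mL oI 82) = zI ∧ cl 82 = 4 ∧ mL (mL oI 110) (mL oI 110) = zI ∧ cl 110 = 4 := by
  decide +kernel

end Cfsg.Agent.Invol.M12
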