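import Cfsg.Agent.Lib.Invol.M12.Base

/-! Fusion of involutions. -/

set_option autoImplicit false
set_option linter.unusedSectionVars false
set_option linter.style.haveILetI false

namespace Cfsg.Agent.Invol.M12

open Cfsg

variable {G : Type*} [Group G] (h : Setting G)

theorem conj_mul' (g a b : G) : g * (a * b) * g⁻¹ = g * a * g⁻¹ * (g * b * g⁻¹) := by group

namespace Setting

/-- Glauberman's theorem: some other conjugate of `z` commutes with it. -/
theorem exists_other [Finite G] [IsSimpleGroup G] (hna : ¬ IsMulCommutative G) :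
    ∃ i < 192, (cl i = 2 ∨ cl i = 3 ∨ cl i = 4) ∧ IsConj (h.e zI) (h.e i) := by
  by_contra hcon
  push Not at hcon
  haveI : Fact (Nat.Prime 2) := ⟨Nat.prime_two⟩
  obtain ⟨P, hP⟩ := h.S0_sylow
  have hzP : h.e zI ∈ (P : Subgroup G) := by
    rw [hP]
    exact ⟨zI, by have := sylow_ok.2.2.2.1; simpa [List.contains_eq_mem] using this, rfl⟩
  obtain ⟨N, hN, hodd, hcomm⟩ := Cfsg.Agent.S0215.result P (h.e zI) h.ord_z hzP fun g hg => by
    have hg' : g * h.e zI * g⁻¹ ∈ (S0 h) := hP ▸ hg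
    obtain ⟨i, hi, hie⟩ := hg'
    have h4 : cl i = 1 ∨ cl i = 2 ∨ cl i = 3 ∨ cl i = 4 := (h.sq_iff (SI_lt hi)).1 (by
      rw [hie, orderOf_conj_eq, h.ord_z])
    rcases h4 with e | e
    · rw [← hie, (cl_spec (SI_lt hi)).2.2.1 e]
    · exact absurd (isConj_iff.2 ⟨g, hie.symm⟩) (hcon i (SI_lt hi) e)
  rcases hN.eq_bot_or_eq_top with e | e
  · have hzc : h.e zI ∈ Subgroup.center G := Subgroup.mem_center_iff.mpr fun g => by
      have := hcomm g
      rw [e, Subgroup.mem_bot, mul_inv_eq_one, mul_inv_eq_iff_eq_mul] at this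
      exact this.symm
    rcases (inferInstance : (Subgroup.center G).Normal).eq_bot_or_eq_top with e' | e'
    · exact h.z_ne (Subgroup.mem_bot.mp (e' ▸ hzc))
    · exact hna ⟨⟨fun a b => Subgroup.mem_center_iff.mp (e' ▸ Subgroup.mem_top b) a⟩⟩
  · rw [e, Subgroup.card_top] at hodd
    exact Nat.not_even_iff_odd.mpr hodd (even_iff_two_dvd.mpr (h.ord_z ▸ orderOf_dvd_natCard _))

/-- `v` is conjugate to `z`. -/
theorem v_conj [Finite G] [IsSimpleGroup G] (hna : ¬ IsMulCommutative G) : IsConj (h.e zI) (h.e vI) := by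
  by_contra hv
  obtain ⟨i, hi, hc, hconj⟩ := h.exists_other hna
  have ho : IsConj (h.e zI) (h.e oI) := by
    obtain ⟨h1, h2, h3, h4⟩ := h.isConj_rep hi
    rcases hc with e | e | e
    · exact absurd (hconj.trans (h2 e)) hv
    · exact absurd ((hconj.trans (h3 e)).symm) h.w_not_conj
    · exact hconj.trans (h4 e)
  obtain ⟨k, hk1, hk2⟩ := h.swap const_lt.2.2.2.2.1 (Or.inr (Or.inr consts_ok.2.2.2.2.1)) ho
  obtain ⟨hnoW, hpair, hex⟩ := cent_o_ok
  simp only [List.all_eq_true, List.mem_range, Bool.not_eq_true', Bool.and_eq_false_iff, beq_eq_false_iff_ne] at hnoW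
  simp only [List.all_eq_true, List.mem_range, Bool.or_eq_true, Bool.not_eq_true', beq_iff_eq] at hpair
  simp only [List.any_eq_true, List.mem_range, Bool.and_eq_true, beq_iff_eq] at hex
  obtain ⟨p, hp, hpo, hpc⟩ := hex
  have move : ∀ p < 192, com p oI = true → cl p = 2 → ∃ q < 192, com q oI = true ∧ cl q = 2 ∧
      h.e q = k * h.e p * k⁻¹ := by
    intro p hp hpo hpc
    have e1 := (h.com_iff hp const_lt.2.2.2.2.1).2 hpo
    obtain ⟨q, hq, hqe⟩ := h.mem_cent (x := k * h.e p * k⁻¹) (by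
      rw [← hk2]
      calc k * h.e p * k⁻¹ * (k * h.e oI * k⁻¹) = k * (h.e p * h.e oI) * k⁻¹ := by group
        _ = k * h.e oI * k⁻¹ * (k * h.e p * k⁻¹) := by rw [e1]; group)
    have hqo : com q oI = true := by
      rw [← h.com_iff hq const_lt.2.2.2.2.1, hqe, ← hk1]
      calc k * h.e p * k⁻¹ * (k * h.e zI * k⁻¹) = k * (h.e p * h.e zI) * k⁻¹ := by group
        _ = k * h.e zI * k⁻¹ * (k * h.e p * k⁻¹) := by rw [h.e_comm_z hp]; group
    have hpq : IsConj (h.e p) (h.e q) := isConj_iff.2 ⟨k, hqe.symm⟩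
    have hnz : ¬ IsConj (h.e zI) (h.e p) := fun e => hv (e.trans ((h.isConj_rep hp).2.1 hpc))
    have h4 : cl q = 1 ∨ cl q = 2 ∨ cl q = 3 ∨ cl q = 4 := (h.sq_iff hq).1 (by
      rw [hqe, orderOf_conj_eq]; exact (h.sq_iff hp).2 (Or.inr (Or.inl hpc)))
    refine ⟨q, hq, hqo, ?_, hqe⟩
    rcases h4 with e | e | e | e
    · exact absurd ((cl_spec hq).2.2.1 e ▸ hpq).symm hnz
    · exact e
    · exact absurd e ((hnoW q hq).resolve_left (by simp [hqo]))
    · exact absurd ((hpq.trans ((h.isConj_rep hq).2.2.2 e)).trans ho.symm).symm hnz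
  have hz3 := const_lt.1
  set p' := mL p zI with hp'
  have hp'l : p' < 192 := mL_lt hp hz3
  have hp'o : com p' oI = true := by
    rw [← h.com_iff hp'l const_lt.2.2.2.2.1, h.mul p hp _ hz3, mul_assoc, ← h.e_comm_z const_lt.2.2.2.2.1,
      ← mul_assoc, (h.com_iff hp const_lt.2.2.2.2.1).2 hpo, mul_assoc]
  have hdec : ∀ p < 192, com p oI = true → cl p = 2 → cl (mL p zI) = 2 ∧ mL p zI ≠ p := by
    intro p hp h1 h2
    have : ((List.range 192).all fun p => !(com p oI && cl p == 2) || (cl (mL p zI) == 2 && !(mL p zI == p))) = true := by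
      decide +kernel
    simp only [List.all_eq_true, List.mem_range, Bool.or_eq_true, Bool.not_eq_true', Bool.and_eq_true,
      beq_iff_eq, beq_eq_false_iff_ne] at this
    exact (this p hp).resolve_left (by simp [h1, h2])
  obtain ⟨hp'c, hne⟩ := hdec p hp hpo hpc
  obtain ⟨q, hq, hqo, hqc, hqe⟩ := move p hp hpo hpc
  obtain ⟨q', hq', hqo', hqc', hqe'⟩ := move p' hp'l hp'o hp'c
  have hqq : q ≠ q' := by
    intro e
    subst e
    refine hne (h.inj _ hp'l p hp ?_)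
    have := hqe'.symm.trans hqe
    simpa using this
  have hprod : mL q q' = zI := by
    rcases hpair q hq q' hq' with (e | e) | e
    · simp [hqo, hqc, hqo', hqc'] at e
    · exact absurd e hqq
    · exact e
  have hpp : mL p p' = zI := by
    rcases hpair p hp p' hp'l with (e | e) | e
    · simp [hpo, hpc, hp'o, show cl p' = 2 from hp'c] at e
    · exact absurd e.symm hne
    · exact e
  have e1 : k * h.e zI * k⁻¹ = h.e zI := by
    nth_rewrite 1 [← hpp]
    rw [h.mul p hp p' hp'l, conj_mul', ← hqe, ← hqe', ← h.mul q hq q' hq', hprod]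
  rw [hk1] at e1
  exact absurd (h.inj _ const_lt.2.2.2.2.1 _ hz3 e1) (by decide)

/-- An element of order three rotating `z, v, vz`. -/
theorem exists_rot [Finite G] (hv : IsConj (h.e zI) (h.e vI)) :
    ∃ g : G, g * h.e zI * g⁻¹ = h.e vI ∧ g * h.e vI * g⁻¹ = h.e vzI ∧ g * g * g = 1 := by
  obtain ⟨k, hk1, hk2⟩ := h.swap const_lt.2.1 (Or.inl consts_ok.2.1) hv
  obtain ⟨l, hl, hl1, hl2⟩ := swap_ok
  have hlv : h.e l * h.e vI * (h.e l)⁻¹ = h.e vzI := by rw [h.conj_e hl const_lt.2.1, hl1]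
  have hlvz : h.e l * h.e vzI * (h.e l)⁻¹ = h.e vI := by rw [h.conj_e hl const_lt.2.2.1, hl2]
  have hlz : h.e l * h.e zI * (h.e l)⁻¹ = h.e zI := mul_inv_eq_iff_eq_mul.2 (h.e_comm_z hl)
  set a := h.e l * k with ha
  have ha1 : a * h.e zI * a⁻¹ = h.e vzI := by rw [ha, ← hlv, ← hk1]; group
  have ha2 : a * h.e vI * a⁻¹ = h.e zI := by
    calc a * h.e vI * a⁻¹ = h.e l * (k * h.e vI * k⁻¹) * (h.e l)⁻¹ := by rw [ha]; group
      _ = h.e zI := by rw [hk2, hlz]
  have ha3 : a * h.e vzI * a⁻¹ = h.e vI := by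
    rw [h.vz_eq.1, conj_mul', ha2, ha1, h.vz_eq.2, ← mul_assoc, h.z_sq, one_mul]
  set g0 := a * a with hg0
  have e1 : g0 * h.e zI * g0⁻¹ = h.e vI := by rw [hg0, ← ha3, ← ha1]; group
  have e2 : g0 * h.e vI * g0⁻¹ = h.e vzI := by rw [hg0, ← ha1, ← ha2]; group
  have e3 : g0 * h.e vzI * g0⁻¹ = h.e zI := by rw [hg0, ← ha2, ← ha3]; group
  have h3z : (g0 * g0 * g0) * h.e zI = h.e zI * (g0 * g0 * g0) := by
    refine mul_inv_eq_iff_eq_mul.1 ?_
    calc g0 * g0 * g0 * h.e zI * (g0 * g0 * g0)⁻¹ = g0 * (g0 * (g0 * h.e zI * g0⁻¹) * g0⁻¹) * g0⁻¹ := by group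
      _ = h.e zI := by rw [e1, e2, e3]
  have h3v : (g0 * g0 * g0) * h.e vI = h.e vI * (g0 * g0 * g0) := by
    refine mul_inv_eq_iff_eq_mul.1 ?_
    calc g0 * g0 * g0 * h.e vI * (g0 * g0 * g0)⁻¹ = g0 * (g0 * (g0 * h.e vI * g0⁻¹) * g0⁻¹) * g0⁻¹ := by group
      _ = h.e vI := by rw [e2, e3, e1]
  obtain ⟨i, hi, hie⟩ := h.mem_cent h3z
  have h8 : ((List.range 192).all fun i => !(com i vI) || pwL i 7 == 0) = true := by decide +kernel
  simp only [List.all_eq_true, List.mem_range, Bool.or_eq_true, Bool.not_eq_true', beq_iff_eq] at h8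
  have hcom : com i vI = true := (h.com_iff hi const_lt.2.1).1 (hie ▸ h3v)
  have h7 := (h8 i hi).resolve_left (by simp [hcom])
  have hpw : ∀ n, pwL i n < 192 ∧ h.e (pwL i n) = h.e i ^ (n + 1) := by
    intro n
    induction n with
    | zero => exact ⟨hi, by simp [pwL]⟩
    | succ n ih => exact ⟨mL_lt ih.1 hi, by rw [pwL, h.mul _ ih.1 _ hi, ih.2, ← pow_succ]⟩
  have h24 : g0 ^ 24 = 1 := by
    have := (hpw 7).2
    rw [h7, h.e_zero, hie] at this
    rw [show (24 : ℕ) = 3 * 8 by norm_num, pow_mul,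
      show g0 ^ 3 = g0 * g0 * g0 by rw [pow_succ, pow_two]]
    exact this.symm
  refine ⟨g0 ^ 16, ?_, ?_, ?_⟩
  · have c : ∀ n, g0 ^ (3 * n) * h.e zI = h.e zI * g0 ^ (3 * n) := fun n => by
      have : Commute (g0 * g0 * g0) (h.e zI) := h3z
      rw [pow_mul, show g0 ^ 3 = g0 * g0 * g0 by rw [pow_succ, pow_two]]
      exact (this.pow_left n).eq
    rw [show (16 : ℕ) = 1 + 3 * 5 by norm_num, pow_add, pow_one]
    calc g0 * g0 ^ (3 * 5) * h.e zI * (g0 * g0 ^ (3 * 5))⁻¹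
        = g0 * (g0 ^ (3 * 5) * h.e zI) * (g0 ^ (3 * 5))⁻¹ * g0⁻¹ := by group
      _ = g0 * h.e zI * g0⁻¹ := by rw [c]; group
      _ = h.e vI := e1
  · have c : ∀ n, g0 ^ (3 * n) * h.e vI = h.e vI * g0 ^ (3 * n) := fun n => by
      have : Commute (g0 * g0 * g0) (h.e vI) := h3v
      rw [pow_mul, show g0 ^ 3 = g0 * g0 * g0 by rw [pow_succ, pow_two]]
      exact (this.pow_left n).eq
    rw [show (16 : ℕ) = 1 + 3 * 5 by norm_num, pow_add, pow_one]
    calc g0 * g0 ^ (3 * 5) * h.e vI * (g0 * g0 ^ (3 * 5))⁻¹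
        = g0 * (g0 ^ (3 * 5) * h.e vI) * (g0 ^ (3 * 5))⁻¹ * g0⁻¹ := by group
      _ = g0 * h.e vI * g0⁻¹ := by rw [c]; group
      _ = h.e vzI := e2
  · rw [← pow_add, ← pow_add, show 16 + 16 + 16 = 24 * 2 by norm_num, pow_mul, h24, one_pow]

end Setting

/-- The data of a rotation. -/
structure Rot (g : G) : Prop where
  gz : g * h.e zI * g⁻¹ = h.e vI
  gv : g * h.e vI * g⁻¹ = h.e vzI
  g3 : g * g * g = 1

namespace Rot

variable {h} {g : G} (r : Rot h g)
include r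

theorem gvz : g * h.e vzI * g⁻¹ = h.e zI := by
  rw [h.vz_eq.1, conj_mul', r.gv, r.gz, h.vz_eq.2, mul_assoc]
  have hv2 : h.e vI * h.e vI = 1 :=
    (Cfsg.Agent.Invol.orderOf_two_iff.1 ((h.sq_iff const_lt.2.1).2 (Or.inr (Or.inl consts_ok.2.1)))).1
  rw [hv2, mul_one]

omit r in
theorem commute_vz {x : G} (h1 : x * h.e zI = h.e zI * x) (h2 : x * h.e vI = h.e vI * x) :
    x * h.e vzI = h.e vzI * x := by
  rw [h.vz_eq.1, ← mul_assoc, h2, mul_assoc, h1, mul_assoc]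

/-- The rotation acts on the centraliser of `⟨z, v⟩`. -/
theorem map_M {a : ℕ} (ha : a < 32) : ∃ b < 32, h.e (mi b) = g * h.e (mi a) * g⁻¹ := by
  obtain ⟨hl, hc, -, -⟩ := mi_spec ha
  have h1 := h.e_comm_z hl
  have h2 := (h.com_iff hl const_lt.2.1).2 hc
  have h3 := commute_vz (h := h) h1 h2
  obtain ⟨i, hi, hie⟩ := h.mem_cent (x := g * h.e (mi a) * g⁻¹) (by
    rw [← r.gvz]
    calc g * h.e (mi a) * g⁻¹ * (g * h.e vzI * g⁻¹) = g * (h.e (mi a) * h.e vzI) * g⁻¹ := by group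
      _ = g * h.e vzI * g⁻¹ * (g * h.e (mi a) * g⁻¹) := by rw [h3]; group)
  have hiv : com i vI = true := by
    rw [← h.com_iff hi const_lt.2.1, hie, ← r.gz]
    calc g * h.e (mi a) * g⁻¹ * (g * h.e zI * g⁻¹) = g * (h.e (mi a) * h.e zI) * g⁻¹ := by group
      _ = g * h.e zI * g⁻¹ * (g * h.e (mi a) * g⁻¹) := by rw [h1]; group
  obtain ⟨b, hb, rfl⟩ := mi_complete hi hiv
  exact ⟨b, hb, hie⟩

omit r in
theorem mi_inj {a b : ℕ} (ha : a < 32) (hb : b < 32) (e : h.e (mi a) = h.e (mi b)) : a = b :=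
  ((mi_spec ha).2.2.1 b hb).2.2 (h.inj _ (mi_spec ha).1 _ (mi_spec hb).1 e)

omit r in
theorem e_mM {a b : ℕ} (ha : a < 32) (hb : b < 32) : h.e (mi (mM a b)) = h.e (mi a) * h.e (mi b) := by
  rw [((mi_spec ha).2.2.1 b hb).2.1, h.mul _ (mi_spec ha).1 _ (mi_spec hb).1]

/-- The rotation is one of the maps of the table. -/
theorem exists_img (B : Bool) (hB : B = true ↔ IsConj (h.e zI) (h.e oI)) (hv : IsConj (h.e zI) (h.e vI))
    (hw : ¬ IsConj (h.e wI) (h.e zI)) : ∃ i0 ∈ MInv, ∃ i ∈ MInv, ∃ j ∈ MInv, autoOk B i0 i j = true ∧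
      ∀ a < 32, img i0 i j 6 a < 32 ∧ h.e (mi (img i0 i j 6 a)) = g * h.e (mi a) * g⁻¹ := by
  choose f hf hfe using fun a : Fin 32 => r.map_M a.2
  let F : ℕ → ℕ := fun a => if ha : a < 32 then f ⟨a, ha⟩ else 0
  have hF : ∀ {a : ℕ}, a < 32 → F a < 32 ∧ h.e (mi (F a)) = g * h.e (mi a) * g⁻¹ := fun {a} ha => by
    simp only [F, dif_pos ha]; exact ⟨hf _, hfe _⟩
  have hFm : ∀ {a b : ℕ}, a < 32 → b < 32 → F (mM a b) = mM (F a) (F b) := fun {a b} ha hb => by
    have hab := ((mi_spec ha).2.2.1 b hb).1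
    refine mi_inj (h := h) (hF hab).1 ((mi_spec (hF ha).1).2.2.1 _ (hF hb).1).1 ?_
    rw [(hF hab).2, e_mM (h := h) ha hb, e_mM (h := h) (hF ha).1 (hF hb).1, (hF ha).2, (hF hb).2, conj_mul']
  have k0 : mi 0 = 0 ∧ mi zM = zI ∧ mi vM = vI ∧ mi vzM = vzI := ⟨m_ok.2.2.1, m_ok.2.2.2.1, m_ok.2.2.2.2.1, m_ok.2.2.2.2.2.1⟩
  have hzM : zM < 32 ∧ vM < 32 ∧ vzM < 32 ∧ wM < 32 ∧ oM < 32 ∧ gamM < 32 := by decide
  have hF0 : F 0 = 0 := mi_inj (h := h) (hF (by norm_num)).1 (by norm_num) (by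
    rw [(hF (by norm_num)).2, k0.1, h.e_zero]; group)
  have hFz : F zM = vM := mi_inj (h := h) (hF hzM.1).1 hzM.2.1 (by rw [(hF hzM.1).2, k0.2.1, k0.2.2.1, r.gz])
  have hFv : F vM = vzM := mi_inj (h := h) (hF hzM.2.1).1 hzM.2.2.1 (by
    rw [(hF hzM.2.1).2, k0.2.2.1, k0.2.2.2, r.gv])
  have hgens : wM ∈ MInv ∧ oM ∈ MInv ∧ gamM ∈ MInv := by decide +kernel
  have hMInv : ∀ {a : ℕ}, a ∈ MInv → F a ∈ MInv := fun {a} hm => by
    simp only [MInv, List.mem_filter, List.mem_range, Bool.and_eq_true, decide_eq_true_eq, beq_iff_eq] at hm ⊢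
    obtain ⟨ha, hne, hsq⟩ := hm
    refine ⟨(hF ha).1, fun e => hne (mi_inj (h := h) ha (by norm_num) ?_), by rw [← hFm ha ha, hsq, hF0]⟩
    have := (hF ha).2
    rw [e, k0.1, h.e_zero, eq_comm, conj_eq_one_iff] at this
    rw [this, k0.1, h.e_zero]
  have himg : ∀ n a, a < 32 → reach n a = true → img (F wM) (F oM) (F gamM) n a = F a := by
    intro n
    induction n with
    | zero =>
      intro a ha hr
      simp only [reach, beq_iff_eq] at hr
      simp [hr, img, hF0]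
    | succ n ih =>
      intro a ha hr
      by_cases h0 : a = 0
      · simp [h0, img, hF0]
      simp only [reach, Bool.or_eq_true, beq_iff_eq] at hr
      obtain ⟨hp, hpe⟩ := (mi_spec ha).2.2.2 h0
      rw [img, if_neg h0, ih _ (by omega) (hr.resolve_left h0)]
      conv_rhs => rw [← hpe]
      rw [hFm (by omega) (mgen_lt _)]
      congr 1
      have : parM a % 5 < 5 := Nat.mod_lt _ (by norm_num)
      interval_cases (parM a % 5) <;> first | exact hFz.symm | exact hFv.symm | rfl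
  have hreach := reach_ok
  simp only [List.all_eq_true, List.mem_range] at hreach
  have himg6 : ∀ {a : ℕ}, a < 32 → img (F wM) (F oM) (F gamM) 6 a = F a := fun {a} ha => himg 6 a ha (hreach a ha)
  refine ⟨_, hMInv hgens.1, _, hMInv hgens.2.1, _, hMInv hgens.2.2, ?_, fun a ha => ?_⟩
  · have hconjcl : ∀ i < 192, (isZ B (cl i) = true ↔ IsConj (h.e zI) (h.e i)) := by
      intro i hi
      obtain ⟨r1, r2, r3, r4⟩ := h.isConj_rep hi
      constructor
      · intro hz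
        simp only [isZ, Bool.or_eq_true, Bool.and_eq_true, beq_iff_eq] at hz
        rcases hz with (e | e) | ⟨e', e⟩
        · rw [r1 e]
        · exact hv.trans (r2 e).symm
        · exact (hB.1 e').trans (r4 e).symm
      · intro hz
        have h4 : cl i = 1 ∨ cl i = 2 ∨ cl i = 3 ∨ cl i = 4 := (h.sq_iff hi).1 (by
          obtain ⟨c, hc⟩ := isConj_iff.1 hz
          rw [← hc, orderOf_conj_eq, h.ord_z])
        simp only [isZ, Bool.or_eq_true, Bool.and_eq_true, beq_iff_eq]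
        rcases h4 with e | e | e | e
        · exact Or.inl (Or.inl e)
        · exact Or.inl (Or.inr e)
        · exact absurd ((hz.trans (r3 e)).symm) hw
        · exact Or.inr ⟨hB.2 (hz.trans (r4 e)), e⟩
    simp only [autoOk, Bool.and_eq_true, List.all_eq_true, List.mem_range, beq_iff_eq]
    refine ⟨⟨fun a ha => ?_, fun a ha => ?_⟩, fun a ha => ?_⟩
    · rw [himg6 ha, Bool.eq_iff_iff, hconjcl _ (mi_spec ha).1, hconjcl _ (mi_spec (hF ha).1).1, (hF ha).2]
      have hc : IsConj (h.e (mi a)) (g * h.e (mi a) * g⁻¹) := isConj_iff.2 ⟨g, rfl⟩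
      exact ⟨fun e => e.trans hc, fun e => e.trans hc.symm⟩
    · have hk : ∀ {b : ℕ}, b < 32 → img (F wM) (F oM) (F gamM) 6 (mM a b) =
          mM (img (F wM) (F oM) (F gamM) 6 a) (F b) := fun {b} hb => by
        rw [himg6 ha, himg6 ((mi_spec ha).2.2.1 b hb).1, hFm ha hb]
      refine ⟨⟨⟨⟨?_, ?_⟩, hk hzM.2.2.2.1⟩, hk hzM.2.2.2.2.1⟩, hk hzM.2.2.2.2.2⟩
      · rw [hk hzM.1, hFz]
      · rw [hk hzM.2.1, hFv]
    · rw [himg6 ha, himg6 (hF ha).1, himg6 (hF (hF ha).1).1]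
      refine mi_inj (h := h) (hF (hF (hF ha).1).1).1 ha ?_
      rw [(hF (hF (hF ha).1).1).2, (hF (hF ha).1).2, (hF ha).2]
      calc g * (g * (g * h.e (mi a) * g⁻¹) * g⁻¹) * g⁻¹ = (g * g * g) * h.e (mi a) * (g * g * g)⁻¹ := by group
        _ = h.e (mi a) := by rw [r.g3]; group
  · rw [himg6 ha]
    exact hF ha

end Rot

end Cfsg.Agent.Invol.M12
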