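import Cfsg.Agent.Lib.Invol.M12.Sym5
import Cfsg.Agent.Lib.Invol.M12.Table

/-! The generators and their relations. -/

set_option autoImplicit false
set_option linter.unusedSectionVars false
set_option linter.style.haveILetI false

namespace Cfsg.Agent.Invol.M12

open Cfsg.Agent.Spor.Coset (ev ev_append ev_map)

/-- the images of the generators of the complement -/
def pgen : ℕ → Equiv.Perm (Fin 5)
  | 2 => Equiv.swap 1 3 * Equiv.swap 2 4
  | 4 => Equiv.swap 1 2
  | 6 => Equiv.swap 1 3 * Equiv.swap 3 2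
  | 7 => Equiv.swap 3 2 * Equiv.swap 1 3
  | 8 => Equiv.swap 0 3
  | _ => 1

/-- words giving the transpositions -/
def swWord : List (Fin 5 × Fin 5 × List ℕ) :=
  [(0, 1, [2, 8, 2]), (0, 2, [6, 8, 7]), (0, 3, [8]), (0, 4, [2, 6, 8, 7, 2]), (1, 2, [4]), (1, 3, [4, 6]),
   (1, 4, [4, 2, 7]), (2, 3, [4, 7]), (2, 4, [2, 4, 6]), (3, 4, [2, 4, 2])]

theorem perm_facts :
    (∀ i j : Fin 5, i ≠ j → ∃ r ∈ swWord, ev pgen r.2.2 = Equiv.swap i j) ∧
    (∀ r ∈ swWord, ∀ s ∈ r.2.2, s ∈ [2, 4, 6, 7, 8]) ∧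
    pgen 6 * pgen 7 = 1 ∧
    pgen 6 * (Equiv.swap 1 2 * Equiv.swap 3 4) * (pgen 6)⁻¹ = pgen 2 ∧
    pgen 6 * pgen 2 * (pgen 6)⁻¹ = pgen 2 * (Equiv.swap 1 2 * Equiv.swap 3 4) ∧
    pgen 6 * pgen 6 * pgen 6 = 1 ∧
    pgen 4 * pgen 6 * pgen 4 = (pgen 6)⁻¹ ∧
    ev pgen [8, 2, 4, 2] * pgen 4 = pgen 4 * ev pgen [8, 2, 4, 2] ∧
    ev pgen [8, 2, 4, 2] * ev pgen [8, 2, 4, 2] * ev pgen [8, 2, 4, 2] = 1 ∧
    ev pgen [8, 2, 4, 2] * ev pgen [8, 2, 4, 2] ≠ 1 ∧
    ev pgen [2, 4, 2, 8] = (ev pgen [8, 2, 4, 2])⁻¹ ∧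
    (∀ π : Equiv.Perm (Fin 5), π * pgen 4 = pgen 4 * π → π * π * π = 1 →
      π = 1 ∨ π = ev pgen [8, 2, 4, 2] ∨ π = (ev pgen [8, 2, 4, 2])⁻¹) := by
  decide +kernel

/-- the relators in the centraliser of `z` -/
def inTable (w : List ℕ) : Bool := w.all fun s => decide (s < 6)

/-- the relators in the complement of `w` -/
def inComp (w : List ℕ) : Bool := w.all fun s => [2, 4, 6, 7, 8].contains s

/-- the value of a word in the table -/
def evL : List ℕ → ℕ
  | [] => 0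
  | s :: w => mL (lgen s) (evL w)

theorem rels_facts :
    (∀ w ∈ mT.rels, (inTable w = true ∧ evL w = 0) ∨ (inComp w = true ∧ ev pgen w = 1) ∨
      w = [3, 6, 3, 7] ∨ w = [3, 8, 3, 8] ∨ w = [6, 5, 7, 3, 1, 2, 4, 0] ∨
        w = [0, 8, 2, 4, 2, 1, 2, 4, 2, 8]) ∧
    (∀ s < 6, lgen s < 192) ∧ evL [1, 4, 2, 0, 3] = bwI ∧ evL [1, 4, 2, 0, 3, 3, 1, 2, 4, 0] = 0 ∧
    lgen 0 = yI ∧ lgen 1 = iL yI ∧ lgen 2 = vI ∧ lgen 3 = wI ∧ lgen 4 = bI ∧ lgen 5 = oI ∧
    cj yI wI = bI ∧ cj yI bI = bwI2 ∧ cj yI bwI2 = wI ∧ mL (mL yI yI) yI = 0 ∧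
    (∀ i : Fin 192, i.val ≠ 0 → parL i / 6 < i ∧ mL (parL i / 6) (lgen (parL i % 6)) = i) ∧
    bI < 192 ∧ bwI2 < 192 ∧ mL bI wI = bwI2 := by
  decide +kernel

theorem i0_fix : ∀ i0 ∈ MInv, ∀ i ∈ MInv, ∀ j ∈ MInv, img i0 i j 6 wM = i0 := by decide +kernel

theorem aut_nodup : ((List.range 192).map aut).Nodup := by decide +kernel

variable {G : Type*} [Group G]

/-- A setting with the table moved by the automorphism. -/
def Setting.comp (h : Setting G) : Setting G where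
  e i := h.e (aut i)
  inj i hi j hj e := by
    have ha := aut_ok.1
    simp only [List.all_eq_true, List.any_eq_true, List.mem_range, Bool.and_eq_true, decide_eq_true_eq,
      beq_iff_eq] at ha
    have e' := h.inj _ (ha i hi).1.1 _ (ha j hj).1.1 e
    exact List.inj_on_of_nodup_map aut_nodup (List.mem_range.2 hi) (List.mem_range.2 hj) e'
  mul i hi j hj := by
    have ha := aut_ok.1
    simp only [List.all_eq_true, List.mem_range, Bool.and_eq_true, decide_eq_true_eq, beq_iff_eq] at ha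
    rw [(ha i hi).1.2 j hj, h.mul _ (ha i hi).1.1 _ (ha j hj).1.1]
  cen x := by
    have ha := aut_ok.1
    simp only [List.all_eq_true, List.any_eq_true, List.mem_range, Bool.and_eq_true, decide_eq_true_eq,
      beq_iff_eq] at ha
    rw [aut_ok.2.1, h.cen]
    constructor
    · rintro ⟨i, hi, rfl⟩
      obtain ⟨m, hm, e⟩ := (ha i hi).2
      exact ⟨m, hm, by rw [e]⟩
    · rintro ⟨i, hi, rfl⟩
      exact ⟨_, (ha i hi).1.1, rfl⟩

/-- The generators. -/
def gens (h : Setting G) (g q : G) : ℕ → G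
  | 6 => g
  | 7 => g⁻¹
  | 8 => q
  | s => h.e (lgen s)

/-- Generators with the relations. -/
structure GenData (h : Setting G) (g q : G) : Prop where
  inv : ∀ s < mT.n, gens h g q s * gens h g q (mT.iv s) = 1
  rels : ∀ w ∈ mT.rels, ev (gens h g q) w = 1
  sub : ∀ w ∈ mT.sub, ev (gens h g q) w ∈ CW h
  gen_w : CW h ≤ Subgroup.closure {x | ∃ s < mT.n, gens h g q s = x}
  gz : g * h.e zI * g⁻¹ = h.e vI
  go : g * h.e oI * g⁻¹ = h.e bwI

theorem ev_table (h : Setting G) (g q : G) : ∀ w : List ℕ, (∀ s ∈ w, s < 6) →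
    evL w < 192 ∧ ev (gens h g q) w = h.e (evL w)
  | [], _ => ⟨by norm_num [evL], h.e_zero.symm⟩
  | s :: w, hw => by
    have hs := hw s List.mem_cons_self
    obtain ⟨h1, h2⟩ := ev_table h g q w fun t ht => hw t (List.mem_cons_of_mem _ ht)
    refine ⟨mL_lt (rels_facts.2.1 s hs) h1, ?_⟩
    have e : gens h g q s = h.e (lgen s) := by interval_cases s <;> rfl
    show gens h g q s * ev (gens h g q) w = _
    rw [e, h2, evL, h.mul _ (rels_facts.2.1 s hs) _ h1]

theorem gen_z (h : Setting G) (g q : G) {i : ℕ} (hi : i < 192) :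
    h.e i ∈ Subgroup.closure {x | ∃ s < mT.n, gens h g q s = x} := by
  induction i using Nat.strong_induction_on with
  | _ i ih =>
    by_cases h0 : i = 0
    · subst h0; rw [h.e_zero]; exact one_mem _
    obtain ⟨hlt, he⟩ := rels_facts.2.2.2.2.2.2.2.2.2.2.2.2.2.2.1 ⟨i, hi⟩ h0
    have hk : parL i % 6 < 6 := Nat.mod_lt _ (by norm_num)
    obtain ⟨s, hs, hse⟩ : ∃ s < 6, parL i % 6 = s := ⟨_, hk, rfl⟩
    simp only at he hlt
    rw [hse] at he
    rw [← he, h.mul _ (by omega) _ (rels_facts.2.1 s hs)]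
    refine mul_mem (ih _ hlt (by omega)) (Subgroup.subset_closure ⟨s, lt_trans hs (by decide), ?_⟩)
    interval_cases s <;> rfl

theorem inv_comm_of {a b : G} (hb : b * b = 1) (hc : a * b = b * a) : b * a * b * a⁻¹ = 1 := by
  rw [← hc, mul_assoc a b b, hb, mul_one, mul_inv_cancel]

theorem genData_of (h : Setting G) {C1 : Subgroup G} {θ : C1 →* Equiv.Perm (Fin 5)} (c : Comp h C1 θ)
    (g q : C1) (hg : θ g = pgen 6) (hq : θ q = pgen 8) (hgo : (g : G) * h.e oI * (g : G)⁻¹ = h.e bwI) :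
    GenData h g q := by
  classical
  obtain ⟨hzC, hzθ⟩ := c.img_z
  obtain ⟨hvC, hvθ⟩ := c.img_v
  obtain ⟨hbC, hbθ⟩ := c.img_b
  obtain ⟨p1, p2, p67, pgz, pgv, pg3, pbg, pxb, px3, px2, pxi, pcent⟩ := perm_facts
  obtain ⟨r1, rlt, rbw, rgo, l0, l1, l2, l3, l4, l5, y1, y2, y3, y4, -, hbl, hbwl, rbwm⟩ := rels_facts
  set ge := gens h (g : G) (q : G) with hge
  let cg : ℕ → C1 := fun s => if s = 2 then ⟨_, hvC⟩ else if s = 4 then ⟨_, hbC⟩ else if s = 6 then g else
    if s = 7 then g⁻¹ else q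
  have hcg : ∀ s ∈ [2, 4, 6, 7, 8], (cg s : G) = ge s ∧ θ (cg s) = pgen s := by
    intro s hs
    simp only [List.mem_cons, List.not_mem_nil, or_false] at hs
    rcases hs with rfl | rfl | rfl | rfl | rfl
    · exact ⟨by simp [cg, hge, gens, l2], hvθ⟩
    · exact ⟨by simp [cg, hge, gens, l4], hbθ⟩
    · exact ⟨by simp [cg, hge, gens], hg⟩
    · refine ⟨by simp [cg, hge, gens], ?_⟩
      show θ g⁻¹ = pgen 7
      rw [map_inv, hg]; exact inv_eq_of_mul_eq_one_right p67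
    · exact ⟨by simp [cg, hge, gens], hq⟩
  have hev : ∀ w : List ℕ, (∀ s ∈ w, s ∈ [2, 4, 6, 7, 8]) →
      ((ev cg w : C1) : G) = ev ge w ∧ θ (ev cg w) = ev pgen w := by
    intro w
    induction w with
    | nil => exact fun _ => ⟨rfl, map_one θ⟩
    | cons s w ih =>
      intro hw
      obtain ⟨i1, i2⟩ := ih fun t ht => hw t (List.mem_cons_of_mem _ ht)
      obtain ⟨j1, j2⟩ := hcg s (hw s List.mem_cons_self)
      exact ⟨by simp [ev, i1, j1], by simp [ev, map_mul, i2, j2]⟩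
  have hcomp : ∀ w : List ℕ, (∀ s ∈ w, s ∈ [2, 4, 6, 7, 8]) → ev pgen w = 1 → ev ge w = 1 := fun w hw e => by
    obtain ⟨i1, i2⟩ := hev w hw
    rw [← i1, c.bij.1 (i2.trans (e.trans (map_one θ).symm)), Subgroup.coe_one]
  have hwc : ∀ x : C1, (x : G) * h.e wI = h.e wI * x := fun x => (mem_CW h).1 (c.le x.2)
  have hw2 := w_sq h
  have hq2 : (q : G) * q = 1 := by
    have := hcomp [8, 8] (by decide) (by decide +kernel)
    simpa [ev, hge, gens] using this
  -- the element `x`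
  obtain ⟨x1, x2⟩ := hev [8, 2, 4, 2] (by decide)
  obtain ⟨xi1, xi2⟩ := hev [2, 4, 2, 8] (by decide)
  set X := ev cg [8, 2, 4, 2] with hX
  have hXi : ev cg [2, 4, 2, 8] = X⁻¹ := c.bij.1 (by rw [xi2, map_inv, x2, pxi])
  set Y := h.e yI with hY
  have hy3 : Y * Y * Y = 1 := by
    rw [hY, ← h.mul _ (by decide) _ (by decide), ← h.mul _ (mL_lt (by decide) (by decide)) _ (by decide), y4, h.e_zero]
  have hyw : Y * h.e wI * Y⁻¹ = h.e bI := by rw [hY, h.conj_e (by decide) (by decide), y1]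
  have hyb : Y * h.e bI * Y⁻¹ = h.e bI * h.e wI := by
    rw [hY, h.conj_e (by decide) (by decide), y2, ← rbwm, h.mul _ hbl _ (by decide)]
  have hybw : Y * (h.e bI * h.e wI) * Y⁻¹ = h.e wI := by
    rw [← h.mul _ hbl _ (by decide), rbwm, hY, h.conj_e (by decide) hbwl, y3]
  have hXb : (X : G) * h.e bI = h.e bI * (X : G) := by
    have : X * (⟨_, hbC⟩ : C1) = ⟨_, hbC⟩ * X := c.bij.1 (by rw [map_mul, map_mul, x2, hbθ]; exact pxb)
    exact congrArg Subtype.val this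
  have hXbw : (X : G) * (h.e bI * h.e wI) = h.e bI * h.e wI * X := by
    rw [← mul_assoc, hXb, mul_assoc, hwc X, ← mul_assoc]
  set X' := Y * (X : G) * Y⁻¹ with hX'
  have hcon : ∀ {a b : G}, (X : G) * a = a * X → Y * a * Y⁻¹ = b → X' * b = b * X' := fun {a b} e1 e2 => by
    rw [hX', ← e2]
    calc Y * (X : G) * Y⁻¹ * (Y * a * Y⁻¹) = Y * ((X : G) * a) * Y⁻¹ := by group
      _ = Y * a * Y⁻¹ * (Y * X * Y⁻¹) := by rw [e1]; group
  have hX'b : X' * h.e bI = h.e bI * X' := hcon (hwc X) hyw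
  have hX'w : X' * h.e wI = h.e wI * X' := hcon hXbw hybw
  have hX3 : (X : G) * X * X = 1 := by
    have : X * X * X = 1 := c.bij.1 (by rw [map_mul, map_mul, x2, map_one]; exact px3)
    exact congrArg Subtype.val this
  have hX'3 : X' * X' * X' = 1 := by
    calc X' * X' * X' = Y * ((X : G) * X * X) * Y⁻¹ := by rw [hX']; group
      _ = 1 := by rw [hX3]; group
  have hX'C : X' ∈ C1 := by
    refine (c.split X' ((mem_CW h).2 hX'w)).resolve_right fun e => c.w_not ?_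
    have e3 := mul_mem (mul_mem e e) e
    have hcm : Commute X' (h.e wI) := hX'w
    rwa [show X' * h.e wI * (X' * h.e wI) * (X' * h.e wI) = h.e wI from by
      rw [show X' * h.e wI * (X' * h.e wI) * (X' * h.e wI) = (X' * h.e wI) ^ 3 by rw [pow_succ, pow_two],
        hcm.mul_pow, pow_succ X', pow_two X', hX'3, one_mul, pow_succ, pow_two, hw2, one_mul]] at e3
  have hX'X : X' = X := by
    rcases pcent (θ ⟨X', hX'C⟩) (by
        rw [show pgen 4 = θ ⟨_, hbC⟩ from hbθ.symm, ← map_mul, ← map_mul]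
        exact congrArg θ (Subtype.ext hX'b))
      (by rw [← map_mul, ← map_mul, ← map_one θ]; exact congrArg θ (Subtype.ext hX'3)) with e | e | e
    · exfalso
      have e' : X' = 1 := congrArg Subtype.val (c.bij.1 (e.trans (map_one θ).symm))
      have hX1 : X = 1 := Subtype.ext (by
        rw [hX', mul_inv_eq_one, mul_eq_left] at e'
        exact e')
      apply px2
      rw [← x2, hX1, map_one, mul_one]
    · exact congrArg Subtype.val (c.bij.1 (e.trans x2.symm))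
    · exfalso
      have e' : X' = (X : G)⁻¹ := congrArg Subtype.val (c.bij.1 (e.trans (by rw [map_inv, x2])))
      have e2 : Y * X' * Y⁻¹ = X := by
        rw [e', show Y * (X : G)⁻¹ * Y⁻¹ = X'⁻¹ by rw [hX']; group, e', inv_inv]
      have e3 : (X : G) = (X : G)⁻¹ := by
        calc (X : G) = (Y * Y * Y) * X * (Y * Y * Y)⁻¹ := by rw [hy3]; group
          _ = Y * (Y * X' * Y⁻¹) * Y⁻¹ := by rw [hX']; group
          _ = (X : G)⁻¹ := by rw [e2, ← hX', e']
      apply px2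
      have : X * X = 1 := Subtype.ext (by
        show (X : G) * X = 1
        nth_rewrite 2 [e3]; rw [mul_inv_cancel])
      rw [← x2, ← map_mul, this, map_one]
  refine ⟨?_, ?_, ?_, ?_, ?_, hgo⟩
  · intro s hs
    have hs' : s < 9 := hs
    interval_cases s
    case «6» => exact mul_inv_cancel (g : G)
    case «7» => exact inv_mul_cancel (g : G)
    case «8» => exact hq2
    all_goals
      show h.e _ * h.e _ = 1
      rw [← h.mul _ (by decide) _ (by decide), ← h.e_zero]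
      exact congrArg h.e (by decide +kernel)
  · intro w hw
    rcases r1 w hw with ⟨e1, e2⟩ | ⟨e1, e2⟩ | rfl | rfl | rfl | rfl
    · simp only [inTable, List.all_eq_true, decide_eq_true_eq] at e1
      rw [(ev_table h (g : G) (q : G) w e1).2, e2, h.e_zero]
    · simp only [inComp, List.all_eq_true, List.contains_eq_mem, decide_eq_true_eq] at e1
      exact hcomp w e1 e2
    · show h.e wI * ((g : G) * (h.e wI * ((g : G)⁻¹ * 1))) = 1
      rw [mul_one, ← mul_assoc, ← mul_assoc]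
      exact inv_comm_of hw2 (hwc g)
    · show h.e wI * ((q : G) * (h.e wI * ((q : G) * 1))) = 1
      rw [mul_one, ← mul_assoc, ← mul_assoc]
      have := inv_comm_of hw2 (hwc q)
      rwa [inv_eq_of_mul_eq_one_right hq2] at this
    · have e := (ev_table h (g : G) (q : G) [3, 1, 2, 4, 0] (by decide)).2
      show ev ge ([6, 5, 7] ++ [3, 1, 2, 4, 0]) = 1
      rw [ev_append, hge, e]
      show (g : G) * (h.e oI * ((g : G)⁻¹ * 1)) * _ = 1
      rw [mul_one, ← mul_assoc, hgo, ← rbw, ← h.mul _ (by decide +kernel) _ (by decide +kernel), ← h.e_zero]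
      exact congrArg h.e (by decide +kernel)
    · show ev ge ([0] ++ ([8, 2, 4, 2] ++ ([1] ++ [2, 4, 2, 8]))) = 1
      rw [ev_append, ev_append, ev_append, ← x1, ← xi1, hXi, Subgroup.coe_inv]
      show Y * 1 * ((X : G) * (h.e (lgen 1) * 1 * (X : G)⁻¹)) = 1
      rw [l1, h.e_inv (by decide), ← hY, mul_one, mul_one, show Y * ((X : G) * (Y⁻¹ * (X : G)⁻¹)) =
        X' * (X : G)⁻¹ by rw [hX']; group, hX'X, mul_inv_cancel]
  · intro w hw
    have hw' : w ∈ [[2], [3], [4], [6], [7], [8]] := hw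
    simp only [List.mem_cons, List.not_mem_nil, or_false] at hw'
    rcases hw' with rfl | rfl | rfl | rfl | rfl | rfl
    · obtain ⟨i1, -⟩ := hev [2] (by decide); rw [← hge, ← i1]; exact c.le (ev cg [2]).2
    · show h.e wI * 1 ∈ CW h
      rw [mul_one]; exact (mem_CW h).2 rfl
    · obtain ⟨i1, -⟩ := hev [4] (by decide); rw [← hge, ← i1]; exact c.le (ev cg [4]).2
    · obtain ⟨i1, -⟩ := hev [6] (by decide); rw [← hge, ← i1]; exact c.le (ev cg [6]).2
    · obtain ⟨i1, -⟩ := hev [7] (by decide); rw [← hge, ← i1]; exact c.le (ev cg [7]).2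
    · obtain ⟨i1, -⟩ := hev [8] (by decide); rw [← hge, ← i1]; exact c.le (ev cg [8]).2
  · set S := Subgroup.closure {x | ∃ s < mT.n, ge s = x} with hS
    have hsub : ∀ s ∈ [2, 4, 6, 7, 8], s < mT.n := by decide
    have hall : ∀ π : Equiv.Perm (Fin 5), ∃ x : C1, θ x = π ∧ (x : G) ∈ S := by
      intro π
      induction π using Equiv.Perm.swap_induction_on with
      | one => exact ⟨1, map_one θ, one_mem _⟩
      | swap_mul σ i j hij ih =>
        obtain ⟨x, hx, hxS⟩ := ih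
        obtain ⟨r, hr, hre⟩ := p1 i j hij
        obtain ⟨i1, i2⟩ := hev r.2.2 (p2 r hr)
        refine ⟨ev cg r.2.2 * x, by rw [map_mul, i2, hre, hx], ?_⟩
        rw [Subgroup.coe_mul, i1]
        exact mul_mem (Cfsg.Agent.Spor.Coset.ev_mem _ fun s hs =>
          Subgroup.subset_closure ⟨s, hsub s (p2 r hr s hs), rfl⟩) hxS
    have hC1 : ∀ x ∈ C1, x ∈ S := fun x hx => by
      obtain ⟨y, hy, hyS⟩ := hall (θ ⟨x, hx⟩)
      rwa [c.bij.1 hy] at hyS
    have hwS : h.e wI ∈ S := Subgroup.subset_closure ⟨3, by decide, rfl⟩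
    intro x hx
    rcases c.split x hx with e | e
    · exact hC1 x e
    · have := mul_mem (hC1 _ e) (inv_mem hwS)
      rwa [mul_inv_cancel_right] at this
  · have : g * (⟨_, hzC⟩ : C1) * g⁻¹ = ⟨_, hvC⟩ := c.bij.1 (by rw [map_mul, map_mul, map_inv, hzθ, hvθ, hg]; exact pgz)
    exact congrArg Subtype.val this

namespace Setting

/-- Generators with the relations exist. -/
theorem exists_genData [Finite G] (h : Setting G) (hv : IsConj (h.e zI) (h.e vI)) (ho : IsConj (h.e zI) (h.e oI)) :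
    ∃ (h' : Setting G) (g q : G), GenData h' g q := by
  obtain ⟨g0, K, c0⟩ := h.exists_wcfg hv ho
  obtain ⟨C1, θ, c⟩ := c0.exists_comp hv ho
  obtain ⟨g, hg⟩ := c.bij.2 (pgen 6)
  obtain ⟨q, hq⟩ := c.bij.2 (pgen 8)
  obtain ⟨hzC, hzθ⟩ := c.img_z
  obtain ⟨hvC, hvθ⟩ := c.img_v
  obtain ⟨hbC, hbθ⟩ := c.img_b
  obtain ⟨-, -, -, pgz, pgv, pg3, pbg, -⟩ := perm_facts
  have e1 : g * (⟨_, hzC⟩ : C1) * g⁻¹ = ⟨_, hvC⟩ :=
    c.bij.1 (by rw [map_mul, map_mul, map_inv, hzθ, hvθ, hg]; exact pgz)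
  have e2 : g * (⟨_, hvC⟩ : C1) * g⁻¹ = ⟨_, hvC⟩ * ⟨_, hzC⟩ :=
    c.bij.1 (by rw [map_mul, map_mul, map_inv, map_mul, hzθ, hvθ, hg]; exact pgv)
  have e3 : g * g * g = 1 := c.bij.1 (by rw [map_mul, map_mul, hg, map_one]; exact pg3)
  have e4 : (⟨_, hbC⟩ : C1) * g * ⟨_, hbC⟩ = g⁻¹ :=
    c.bij.1 (by rw [map_mul, map_mul, map_inv, hbθ, hg]; exact pbg)
  have r : Rot h (g : G) := ⟨congrArg Subtype.val e1, by
    rw [h.vz_eq.1]; exact congrArg Subtype.val e2, congrArg Subtype.val e3⟩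
  obtain ⟨i0, hi0, i, hi, j, hj, hauto, himg⟩ :=
    r.exists_img true ⟨fun _ => ho, fun _ => rfl⟩ hv h.w_not_conj
  have hwM : mi wM = wI := m_ok.2.2.2.2.2.2.1
  have hi0w : i0 = wM := by
    obtain ⟨hl, he⟩ := himg wM (by decide)
    rw [i0_fix i0 hi0 i hi j hj] at hl he
    refine Rot.mi_inj (h := h) hl (by decide) (he.trans ?_)
    rw [hwM, mul_inv_eq_iff_eq_mul]
    exact (mem_CW h).1 (c.le g.2)
  subst hi0w
  have hbg : h.e bI * (g : G) * h.e bI = (g : G)⁻¹ := congrArg Subtype.val e4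
  have hb2 : h.e bI * h.e bI = 1 := by
    rw [← h.mul _ (by decide) _ (by decide), b_tbl.2.2.2.1, h.e_zero]
  have hbi : (h.e bI)⁻¹ = h.e bI := inv_eq_of_mul_eq_one_right hb2
  have hbM : ∀ {a : ℕ}, a < 32 → bM a < 32 ∧ h.e (mi (bM a)) = h.e bI * h.e (mi a) * h.e bI := fun {a} ha => by
    have := bM_ok
    simp only [List.all_eq_true, List.mem_range, Bool.and_eq_true, decide_eq_true_eq, beq_iff_eq] at this
    obtain ⟨h1, h2⟩ := this a ha
    refine ⟨h1, ?_⟩
    rw [h2, ← h.conj_e (by decide) (mi_spec ha).1, hbi]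
  have hsym : ∀ a < 32, img wM i j 6 (img wM i j 6 a) = bM (img wM i j 6 (bM a)) := by
    intro a ha
    obtain ⟨l1, f1⟩ := himg a ha
    obtain ⟨l2, f2⟩ := himg _ l1
    obtain ⟨lb, fb⟩ := hbM ha
    obtain ⟨l3, f3⟩ := himg _ lb
    obtain ⟨l4, f4⟩ := hbM l3
    refine Rot.mi_inj (h := h) l2 l4 ?_
    rw [f2, f1, f4, f3, fb]
    have hgi : (g : G) * (g : G) = (g : G)⁻¹ := (inv_eq_of_mul_eq_one_left (congrArg Subtype.val e3)).symm
    have hbgb : h.e bI * (g : G)⁻¹ * h.e bI = (g : G) := by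
      have := congrArg (fun t : G => t⁻¹) hbg
      simpa [mul_inv_rev, hbi, mul_assoc] using this
    calc (g : G) * ((g : G) * h.e (mi a) * (g : G)⁻¹) * (g : G)⁻¹
        = ((g : G) * g) * h.e (mi a) * ((g : G) * g)⁻¹ := by group
      _ = (g : G)⁻¹ * h.e (mi a) * g := by rw [hgi, inv_inv]
      _ = (h.e bI * (g : G) * h.e bI) * h.e (mi a) * (h.e bI * (g : G)⁻¹ * h.e bI) := by rw [hbg, hbgb]
      _ = _ := by group
  have hc := cand_ok
  simp only [List.all_eq_true, Bool.or_eq_true, Bool.not_eq_true', Bool.and_eq_false_iff, beq_iff_eq] at hc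
  have hc' : img wM i j 6 oM = bwM ∨ img wM i j 6 8 = bwM := by
    rcases hc i hi j hj with (e | e) | e
    · exfalso
      rcases e with e | e
      · rw [hauto] at e; exact absurd e (by simp)
      · rw [← Bool.not_eq_true, List.all_eq_true] at e
        exact e fun a ha => by simpa using hsym a (List.mem_range.1 ha)
    · exact Or.inl e
    · exact Or.inr e
  have hbwM : mi bwM = bwI := m_ok.2.2.2.2.2.2.2.2.2.1
  rcases hc' with e | e
  · refine ⟨h, g, q, genData_of h c g q hg hq ?_⟩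
    have := (himg oM (by decide)).2
    rw [e, hbwM, m_ok.2.2.2.2.2.2.2.1] at this
    exact this.symm
  · obtain ⟨az, av, aw, ab, ay⟩ := aut_ok.2
    have abw : aut bwI = bwI := m_ok.2.2.2.2.2.2.2.2.2.2.2
    have c' : Comp h.comp C1 θ := by
      refine ⟨c.bij, ?_, ?_, ?_, ⟨?_, ?_⟩, ⟨?_, ?_⟩, ⟨?_, ?_⟩⟩
      · intro x hx
        rw [mem_CW]
        show x * h.e (aut wI) = h.e (aut wI) * x
        rw [aw]; exact (mem_CW h).1 (c.le hx)
      · show h.e (aut wI) ∉ C1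
        rw [aw]; exact c.w_not
      · intro x hx
        rw [mem_CW] at hx
        change x * h.e (aut wI) = h.e (aut wI) * x at hx
        show x ∈ C1 ∨ x * h.e (aut wI) ∈ C1
        rw [aw] at hx ⊢
        exact c.split x ((mem_CW h).2 hx)
      · show h.e (aut zI) ∈ C1; rw [az]; exact hzC
      · rw [show (⟨h.comp.e zI, _⟩ : C1) = ⟨_, hzC⟩ from Subtype.ext (by show h.e (aut zI) = _; rw [az])]; exact hzθ
      · show h.e (aut vI) ∈ C1; rw [av]; exact hvC
      · rw [show (⟨h.comp.e vI, _⟩ : C1) = ⟨_, hvC⟩ from Subtype.ext (by show h.e (aut vI) = _; rw [av])]; exact hvθ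
      · show h.e (aut bI) ∈ C1; rw [ab]; exact hbC
      · rw [show (⟨h.comp.e bI, _⟩ : C1) = ⟨_, hbC⟩ from Subtype.ext (by show h.e (aut bI) = _; rw [ab])]; exact hbθ
    refine ⟨h.comp, g, q, genData_of h.comp c' g q hg hq ?_⟩
    show (g : G) * h.e (aut oI) * (g : G)⁻¹ = h.e (aut bwI)
    have := (himg 8 (by decide)).2
    rw [e, hbwM, m_ok.2.2.2.2.2.2.2.2.2.2.1] at this
    rw [abw]; exact this.symm

end Setting

end Cfsg.Agent.Invol.M12
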