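import Cfsg.Agent.Lib.Invol.M12.CentW
import Cfsg.Agent.Lib.Invol.V4Simple

/-! The subgroup in the centraliser of `w` is simple of order sixty. -/

set_option autoImplicit false
set_option linter.unusedSectionVars false
set_option linter.style.haveILetI false

namespace Cfsg.Agent.Invol.M12

variable {G : Type*} [Group G] {h : Setting G} {g : G} {K : Subgroup G}

namespace WCfg

variable (c : WCfg h g K)
include c

theorem zK : h.e zI ∈ K := c.VK ((mem_VS h).2 (Or.inr (Or.inl rfl)))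

theorem cent_z {x : G} (hx : x ∈ K) (hc : x * h.e zI = h.e zI * x) : x ∈ VS h :=
  c.cap x hx (Subgroup.mem_inf.2 ⟨Subgroup.mem_centralizer_singleton_iff.2 hc, c.le hx⟩)

theorem z_conj_V [Finite G] {x : G} (hx : x ∈ VS h) (hx1 : x ≠ 1) : ∃ k ∈ K, k * h.e zI * k⁻¹ = x := by
  rcases (mem_VS h).1 hx with rfl | rfl | rfl | rfl
  · exact absurd rfl hx1
  · exact ⟨1, one_mem _, by group⟩
  · exact ⟨g, c.gK, c.rot.gz⟩
  · exact ⟨g * g, mul_mem c.gK c.gK, by
      calc g * g * h.e zI * (g * g)⁻¹ = g * (g * h.e zI * g⁻¹) * g⁻¹ := by group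
        _ = h.e vzI := by rw [c.rot.gz, c.rot.gv]⟩

theorem card_C [Finite G] : Nat.card (Subgroup.centralizer ({(⟨h.e zI, c.zK⟩ : K)} : Set K)) = 4 := by
  refine Eq.trans ?_ (card_listSub h VI qv_ok.2.1 (by decide) qv_ok.2.2.2.1 qv_ok.2.2.2.2.2.1)
  exact Nat.card_congr
    { toFun := fun x => ⟨((x : K) : G), c.cent_z (x : K).2
        (congrArg Subtype.val (Subgroup.mem_centralizer_singleton_iff.1 x.2))⟩
      invFun := fun x => ⟨⟨x.1, c.VK x.2⟩, Subgroup.mem_centralizer_singleton_iff.2 (Subtype.ext (by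
        obtain ⟨i, hi, hie⟩ := x.2
        show x.1 * h.e zI = h.e zI * x.1
        rw [← hie]; exact h.e_comm_z (qv_ok.2.1 i hi)))⟩
      left_inv := fun _ => rfl
      right_inv := fun _ => rfl }

theorem exp_two [Finite G] : ∀ x ∈ Subgroup.centralizer ({(⟨h.e zI, c.zK⟩ : K)} : Set K), x * x = 1 := by
  intro x hx
  refine Subtype.ext ?_
  obtain ⟨i, hi, hie⟩ := c.cent_z x.2 (congrArg Subtype.val (Subgroup.mem_centralizer_singleton_iff.1 hx))
  show (x : G) * x = 1
  rw [← hie, ← h.mul i (qv_ok.2.1 i hi) i (qv_ok.2.1 i hi),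
    (by decide +kernel : ∀ i ∈ VI, mL i i = 0) i hi, h.e_zero]

/-- All involutions of `K` are conjugate in it. -/
theorem one_class [Finite G] (hv : IsConj (h.e zI) (h.e vI)) (u : K) (hu : orderOf u = 2) :
    IsConj (⟨h.e zI, c.zK⟩ : K) u := by
  haveI : Fact (Nat.Prime 2) := ⟨Nat.prime_two⟩
  obtain ⟨P, hP⟩ := RW_sylow h hv
  obtain ⟨m, hm, hKm⟩ : ∃ m, Odd m ∧ Nat.card K = 4 * m := by
    refine ⟨(P : Subgroup (CW h)).index, Nat.not_even_iff_odd.1 fun e => P.not_dvd_index e.two_dvd, ?_⟩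
    have := (P : Subgroup (CW h)).card_mul_index
    rw [hP, Nat.card_congr (Subgroup.subgroupOfEquivOfLe (RW_le h)).toEquiv, card_RW, c.card_CW] at this
    rw [hP]; omega
  obtain ⟨P2, hP2⟩ := sylow_of c.VK (n := 2) (by rw [card_listSub h VI _ _ _ qv_ok.2.2.2.2.2.1]; rfl)
    (by rw [card_listSub h VI _ _ _ qv_ok.2.2.2.2.2.1]; exact hKm) hm
  obtain ⟨Q, hQ⟩ := (IsPGroup.of_card (n := 1) (by rw [Nat.card_zpowers, hu, pow_one]) :
    IsPGroup 2 (Subgroup.zpowers u)).exists_le_sylow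
  obtain ⟨a, ha⟩ := MulAction.exists_smul_eq K Q P2
  have hmem : a * u * a⁻¹ ∈ (P2 : Subgroup K) := by
    rw [← ha, Sylow.coe_subgroup_smul]; exact ⟨u, hQ (Subgroup.mem_zpowers u), rfl⟩
  rw [hP2, Subgroup.mem_subgroupOf] at hmem
  obtain ⟨k, hk, hke⟩ := c.z_conj_V hmem (fun e => by
    have e' : a * u * a⁻¹ = 1 := Subtype.ext e
    rw [conj_eq_one_iff] at e'
    rw [e', orderOf_one] at hu; omega)
  refine (isConj_iff.2 ⟨⟨k, hk⟩, ?_⟩).trans (isConj_iff.2 ⟨a⁻¹, ?_⟩ : IsConj (a * u * a⁻¹) u)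
  · exact Subtype.ext hke
  · group

theorem card_K_cases [Finite G] (hv : IsConj (h.e zI) (h.e vI)) : Nat.card K = 12 ∨ Nat.card K = 60 :=
  Cfsg.Agent.Invol.V4Order.order_eq (⟨h.e zI, c.zK⟩ : K) (by rw [← Subgroup.orderOf_coe]; exact h.ord_z)
    c.card_C c.exp_two (c.one_class hv)

/-- In the small case there are only three conjugates of `z` centralising `w`. -/
theorem small_false [Finite G] (hv : IsConj (h.e zI) (h.e vI)) (ho : IsConj (h.e zI) (h.e oI)) (h12 : Nat.card K = 12) : False := by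
  classical
  haveI : Fact (Nat.Prime 2) := ⟨Nat.prime_two⟩
  have hB : true = true ↔ IsConj (h.e zI) (h.e oI) := ⟨fun _ => ho, fun _ => rfl⟩
  have hz : ∀ i < 192, isZ true (cl i) = true ↔ IsConj (h.e zI) (h.e i) := fun i hi => h.cls_z true hB hv hi
  have hW : ∀ i < 192, isW true (cl i) = true ↔ IsConj (h.e wI) (h.e i) := fun i hi =>
    h.cls_w true hB hv (fun e => absurd e (by simp)) hi
  have h48 : Nat.card (CW h) = 48 := by rw [c.card_CW, h12]
  have hVinv : ∀ x ∈ VS h, x * x = 1 := by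
    rintro x ⟨i, hi, rfl⟩
    rw [← h.mul i (qv_ok.2.1 i hi) i (qv_ok.2.1 i hi), (by decide +kernel : ∀ i ∈ VI, mL i i = 0) i hi, h.e_zero]
  -- the four-group is normal
  have hgR : g ∉ RW h := by
    intro e
    obtain ⟨i, hi, hie⟩ := (mem_RW h).1 e
    have h3 : (RI.all fun i => !(mL (mL i i) i == 0) || i == 0) = true := by decide +kernel
    simp only [List.all_eq_true, Bool.or_eq_true, Bool.not_eq_true', beq_iff_eq, beq_eq_false_iff_ne] at h3
    have hil := RI_lt i hi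
    have h0 : mL (mL i i) i = 0 := h.inj _ (mL_lt (mL_lt hil hil) hil) _ (by norm_num) (by
      rw [h.mul _ (mL_lt hil hil) _ hil, h.mul _ hil _ hil, hie, c.rot.g3, h.e_zero])
    have hi0 := (h3 i hi).resolve_left (fun e => e h0)
    subst hi0
    rw [h.e_zero] at hie
    have := c.rot.gz
    rw [← hie, one_mul, inv_one, mul_one] at this
    exact absurd (h.inj _ const_lt.1 _ const_lt.2.1 this) (by decide)
  have hnormal : ∀ x ∈ CW h, ∀ y ∈ VS h, x * y * x⁻¹ ∈ VS h := by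
    let N : Subgroup G := Subgroup.normalizer (VS h : Set G) ⊓ CW h
    have hVmem : ∀ {a : G}, (∀ y ∈ VS h, a * y * a⁻¹ ∈ VS h) → (∀ y ∈ VS h, a⁻¹ * y * a ∈ VS h) →
        a ∈ Subgroup.normalizer (VS h : Set G) := fun {a} h1 h2 =>
      Subgroup.mem_normalizer_iff.2 fun y => ⟨h1 y, fun hy => by simpa [mul_assoc] using h2 _ hy⟩
    have hRN : RW h ≤ N := fun a ha => Subgroup.mem_inf.2 ⟨hVmem (fun y hy => RW_norm_VS h ha hy) (fun y hy => by
      have := RW_norm_VS h (inv_mem ha) hy; rwa [inv_inv] at this), RW_le h ha⟩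
    have hgN : g ∈ N := Subgroup.mem_inf.2 ⟨hVmem (fun y hy => c.rot.V_conj hy) (fun y hy => by
      have hg : g⁻¹ = g * g := inv_eq_of_mul_eq_one_left c.rot.g3
      rw [show g⁻¹ * y * g = g⁻¹ * y * g⁻¹⁻¹ by rw [inv_inv], hg]
      have := c.rot.V_conj (c.rot.V_conj hy)
      rwa [show g * (g * y * g⁻¹) * g⁻¹ = g * g * y * (g * g)⁻¹ by group] at this), (mem_CW h).2 c.gw⟩
    have h3 : N = CW h := by
      refine Subgroup.eq_of_le_of_card_ge inf_le_right ?_
      rw [h48]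
      have hd1 : Nat.card (RW h) ∣ Nat.card N := Subgroup.card_dvd_of_le hRN
      rw [card_RW] at hd1
      have hd2 : Nat.card N ∣ 48 := h48 ▸ Subgroup.card_dvd_of_le inf_le_right
      obtain ⟨q, hq⟩ := hd1
      rw [hq] at hd2 ⊢
      have hq3 : q ∣ 3 := Nat.dvd_of_mul_dvd_mul_left (by norm_num : 0 < 16) (show 16 * q ∣ 16 * 3 from hd2)
      rcases (Nat.dvd_prime Nat.prime_three).1 hq3 with e | e <;> subst e
      · exact absurd ((Subgroup.eq_of_le_of_card_ge hRN (by rw [hq, card_RW])).symm ▸ hgN) hgR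
      · norm_num
    intro x hx y hy
    exact (Subgroup.mem_normalizer_iff.1 (Subgroup.mem_inf.1 (h3.symm ▸ hx : x ∈ N)).1 y).1 hy
  have hzV : ∀ x ∈ CW h, IsConj (h.e zI) x → x ∈ VS h := by
    intro x hx hc
    obtain ⟨P, hP⟩ := RW_sylow h hv
    have hx2 : orderOf (⟨x, hx⟩ : CW h) = 2 := by
      obtain ⟨k, hk⟩ := isConj_iff.1 hc
      rw [Subgroup.orderOf_mk, ← hk, orderOf_conj_eq, h.ord_z]
    obtain ⟨Q, hQ⟩ := (IsPGroup.of_card (n := 1) (by rw [Nat.card_zpowers, hx2, pow_one]) :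
      IsPGroup 2 (Subgroup.zpowers (⟨x, hx⟩ : CW h))).exists_le_sylow
    obtain ⟨a, ha⟩ := MulAction.exists_smul_eq (CW h) Q P
    have hmem : a * ⟨x, hx⟩ * a⁻¹ ∈ (P : Subgroup (CW h)) := by
      rw [← ha, Sylow.coe_subgroup_smul]; exact ⟨_, hQ (Subgroup.mem_zpowers _), rfl⟩
    rw [hP, Subgroup.mem_subgroupOf, mem_RW] at hmem
    obtain ⟨i, hi, hie⟩ := hmem
    have hie' : h.e i = (a : G) * x * (a : G)⁻¹ := by simpa using hie
    have hcl := (hz i (RI_lt i hi)).2 (hc.trans (isConj_iff.2 ⟨(a : G), hie'.symm⟩))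
    simp only [isZ, Bool.true_and, Bool.or_eq_true, beq_iff_eq] at hcl
    have hiV : i ∈ VI := qv_ok.2.2.2.2.2.2.2.2.2.1 i hi
      (hcl.resolve_right (fun e => qv_ok.2.2.2.2.2.2.2.2.2.2.2.2.2.2.2.2.2 i hi e))
    have := hnormal _ (inv_mem a.2) _ ⟨i, hiV, rfl⟩
    rw [hie'] at this
    simpa [mul_assoc] using this
  -- three pairs
  have hwV : h.e wI ∉ VS h := by
    rintro ⟨i, hi, e⟩
    exact (by decide : wI ∉ VI) (h.inj i (qv_ok.2.1 i hi) _ const_lt.2.2.2.1 e ▸ hi)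
  have hcomm : ∀ x ∈ VS h, x * h.e wI = h.e wI * x := fun x hx => (mem_CW h).1 (RW_le h (VS_le_RW h hx))
  have hxw : ∀ x ∈ VS h, x ≠ 1 → IsConj (h.e wI) (x * h.e wI) := by
    intro x hx hx1
    have k : ∀ {i : ℕ}, i < 192 → cl (mL i wI) = 3 → IsConj (h.e wI) (h.e i * h.e wI) := fun {i} hi hc => by
      rw [← h.mul i hi _ const_lt.2.2.2.1]
      exact ((h.isConj_rep (mL_lt hi const_lt.2.2.2.1)).2.2.1 hc).symm
    rcases (mem_VS h).1 hx with rfl | rfl | rfl | rfl
    exacts [absurd rfl hx1, k const_lt.1 qv_ok.2.2.2.2.2.2.2.2.2.2.2.2.2.2.1,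
      k const_lt.2.1 qv_ok.2.2.2.2.2.2.2.2.2.2.2.2.2.2.2.1, k const_lt.2.2.1 qv_ok.2.2.2.2.2.2.2.2.2.2.2.2.2.2.2.2.1]
  have hw2 := w_sq h
  have hw1 := (Cfsg.Agent.Invol.orderOf_two_iff.1 (ord_w h)).2
  have hcount : S3313.aCount (h.e zI) (h.e wI) (h.e wI) = 3 := by
    have hcardV : Nat.card {x : G // x ∈ VS h ∧ x ≠ 1} = 3 := by
      refine (h.card_image (l := [zI, vI, vzI]) (by decide) (by decide) (A := {x | x ∈ VS h ∧ x ≠ 1}) fun x => ?_)
      simp only [Set.mem_ofPred_eq, List.mem_cons, List.not_mem_nil, or_false, exists_eq_or_imp,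
        exists_eq_left]
      constructor
      · rintro ⟨hx, hx1⟩
        rcases (mem_VS h).1 hx with e | e | e | e
        exacts [absurd e hx1, Or.inl e.symm, Or.inr (Or.inl e.symm), Or.inr (Or.inr e.symm)]
      · rintro (rfl | rfl | rfl)
        · exact ⟨(mem_VS h).2 (Or.inr (Or.inl rfl)), h.z_ne⟩
        · exact ⟨(mem_VS h).2 (Or.inr (Or.inr (Or.inl rfl))), fun e => absurd ((h.e_eq_one const_lt.2.1).1 e) (by decide)⟩
        · exact ⟨(mem_VS h).2 (Or.inr (Or.inr (Or.inr rfl))), fun e => absurd ((h.e_eq_one const_lt.2.2.1).1 e) (by decide)⟩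
    rw [← hcardV, S3313.aCount]
    refine (Nat.card_congr (Equiv.ofBijective (fun x => (⟨(x.1, x.1 * h.e wI), ?_⟩ :
      {p : G × G // IsConj (h.e zI) p.1 ∧ IsConj (h.e wI) p.2 ∧ S3313.vinv p = h.e wI})) ⟨?_, ?_⟩)).symm
    · obtain ⟨x, hx, hx1⟩ := x
      refine ⟨?_, hxw x hx hx1, ?_⟩
      · obtain ⟨k, -, hk⟩ := c.z_conj_V hx hx1
        exact isConj_iff.2 ⟨k, hk⟩
      · show (x * (x * h.e wI)) ^ (orderOf (x * (x * h.e wI)) / 2) = h.e wI
        rw [← mul_assoc, hVinv x hx, one_mul, ord_w, pow_one]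
    · intro x y e
      exact Subtype.ext (congrArg Prod.fst (congrArg Subtype.val e))
    · rintro ⟨⟨x, y⟩, hx, hy, hvv⟩
      have hinv : ∀ {a b : G}, orderOf a = 2 → IsConj a b → b * b = 1 ∧ b ≠ 1 := fun {a b} ha hab => by
        obtain ⟨k, rfl⟩ := isConj_iff.1 hab
        exact Cfsg.Agent.Invol.orderOf_two_iff.1 (by rw [orderOf_conj_eq, ha])
      obtain ⟨hx2, hx1⟩ := hinv h.ord_z hx
      obtain ⟨hy2, -⟩ := hinv (ord_w h) hy
      have hcxy : Commute (x * y) (h.e wI) := hvv ▸ (Commute.refl (x * y)).pow_right _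
      have hxw' : x * h.e wI = h.e wI * x := by
        refine mul_inv_eq_iff_eq_mul.1 ?_
        calc x * h.e wI * x⁻¹ = x * S3313.vinv (x, y) * x⁻¹ := by rw [hvv]
          _ = (S3313.vinv (x, y))⁻¹ := by
            show x * (x * y) ^ _ * x⁻¹ = _
            rw [← conj_pow, S3313.conj_involution_product x y hx2 hy2, inv_pow]; rfl
          _ = h.e wI := by rw [hvv, inv_eq_of_mul_eq_one_right hw2]
      have hyw : y * h.e wI = h.e wI * y := by
        have : Commute (x⁻¹ * (x * y)) (h.e wI) := (show Commute x (h.e wI) from hxw').inv_left.mul_left hcxy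
        rwa [inv_mul_cancel_left] at this
      have hxV := hzV x ((mem_CW h).2 hxw') hx
      refine ⟨⟨x, hxV, hx1⟩, Subtype.ext (Prod.ext rfl ?_)⟩
      show x * h.e wI = y
      set q := x * y with hq
      have hqw : q ^ (orderOf q / 2) = h.e wI := hvv
      have hd : q * q ∈ VS h := by
        have : y * x * y⁻¹ ∈ VS h := hzV _ (mul_mem (mul_mem ((mem_CW h).2 hyw) ((mem_CW h).2 hxw'))
          (inv_mem ((mem_CW h).2 hyw))) (hx.trans (isConj_iff.2 ⟨y, rfl⟩))
        rw [inv_eq_of_mul_eq_one_right hy2] at this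
        rw [hq, show x * y * (x * y) = x * (y * x * y) by group]
        exact mul_mem hxV this
      by_cases hqq : q * q = 1
      · have hqe : q = h.e wI := by
          by_cases hq1 : q = 1
          · rw [hq1] at hqw; simp at hqw; exact absurd hqw.symm hw1
          rw [Cfsg.Agent.Invol.orderOf_two_iff.2 ⟨hqq, hq1⟩, pow_one] at hqw
          exact hqw
        rw [← hqe, hq, ← mul_assoc, hx2, one_mul]
      · refine absurd ?_ hwV
        have h4 : q * q = q ^ (orderOf q / 2) :=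
          pow_eq_half (k := 2) (pow_two q) (Cfsg.Agent.Invol.orderOf_two_iff.2 ⟨hVinv _ hd, hqq⟩)
        rw [← hqw, ← h4]; exact hd
  have hzw' : ¬ IsConj (h.e zI) (h.e wI) := fun e => h.w_not_conj e.symm
  have hGcard : Nat.card G = 12096 := by
    rw [S3313.order_formula (h.e zI) (h.e wI) h.ord_z (ord_w h) hzw' (h.two_classes hv (Or.inl ho)),
      show Nat.card (Subgroup.centralizer ({h.e wI} : Set G)) = 48 from h48, h.card_C,
      h.aCount_eq true hz hW (fun i hi => List.mem_range.1 hi) List.nodup_range const_lt.1 h.ord_z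
        (fun x => by rw [h.cen]; simp [List.mem_range]), hcount, pairs_ok.2.1]
  have h63 : Nat.card {x : G // IsConj (h.e zI) x} = 63 := by
    have := S3313.card_class_mul (h.e zI)
    rw [h.card_C, hGcard] at this
    omega
  -- seventy-nine conjugates
  letI := Fintype.ofFinite G
  obtain ⟨s, hs1, hs2⟩ := h.swap const_lt.2.2.2.2.1 (Or.inr (Or.inr consts_ok.2.2.2.2.1)) ho
  obtain ⟨ks, hks, hksl, hksn⟩ := orbit_o
  obtain ⟨w1, w2, w3, w4⟩ := wit_ok
  have wl : ∀ {x : ℕ}, x ∈ [82, 110] → x < 192 ∧ mL (mL oI x) (mL oI x) = zI ∧ cl x = 4 := fun {x} hx => by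
    simp only [List.mem_cons, List.not_mem_nil, or_false] at hx
    rcases hx with rfl | rfl
    exacts [⟨by norm_num, w1, w2⟩, ⟨by norm_num, w3, w4⟩]
  let f : ℕ × ℕ → G := fun p => h.e p.1 * (s * h.e p.2 * s⁻¹) * (h.e p.1)⁻¹
  have hsq : ∀ {k x : ℕ}, k < 192 → x ∈ [82, 110] → h.e zI * f (k, x) * (h.e zI * f (k, x)) = h.e (cj k oI) := by
    intro k x hk hx
    obtain ⟨hxl, hxx, -⟩ := wl hx
    have hox := mL_lt const_lt.2.2.2.2.1 hxl
    have h1 : h.e oI * h.e x * (h.e oI * h.e x) = h.e zI := by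
      rw [← h.mul _ const_lt.2.2.2.2.1 _ hxl, ← h.mul _ hox _ hox, hxx]
    have hkz := h.e_comm_z hk
    have e1 : h.e zI * f (k, x) = h.e k * (h.e zI * (s * h.e x * s⁻¹)) * (h.e k)⁻¹ := by
      show h.e zI * (h.e k * (s * h.e x * s⁻¹) * (h.e k)⁻¹) = _
      rw [← mul_assoc (h.e zI), ← mul_assoc (h.e zI), ← hkz]; group
    have e2 : h.e zI * (s * h.e x * s⁻¹) = s * (h.e oI * h.e x) * s⁻¹ := by rw [← hs2]; group
    calc h.e zI * f (k, x) * (h.e zI * f (k, x))
        = h.e k * (s * (h.e oI * h.e x * (h.e oI * h.e x)) * s⁻¹) * (h.e k)⁻¹ := by rw [e1, e2]; group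
      _ = h.e (cj k oI) := by rw [h1, hs1, h.conj_e hk const_lt.2.2.2.2.1]
  let T : Finset (ℕ × ℕ) := ks.toFinset ×ˢ [82, 110].toFinset
  let A : Finset G := ((List.range 192).filter (fun i => isZ true (cl i))).toFinset.image h.e
  have hA : A.card = 31 := by
    rw [Finset.card_image_of_injOn, List.toFinset_card_of_nodup (List.nodup_range.filter _),
      ← List.countP_eq_length_filter]
    · exact count_cls.2
    · intro a ha b hb e
      simp only [List.coe_toFinset, Set.mem_ofPred, List.mem_filter, List.mem_range] at ha hb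
      exact h.inj a ha.1 b hb.1 e
  have hmemT : ∀ {k x : ℕ}, (k, x) ∈ T → k ∈ ks ∧ k < 192 ∧ x ∈ [82, 110] := fun {k x} hp => by
    obtain ⟨a, b⟩ := Finset.mem_product.1 hp
    exact ⟨List.mem_toFinset.1 a, hksl k (List.mem_toFinset.1 a), List.mem_toFinset.1 b⟩
  have hB' : (T.image f).card = 48 := by
    rw [Finset.card_image_of_injOn, Finset.card_product, List.toFinset_card_of_nodup (hksn.of_map _),
      List.toFinset_card_of_nodup (by decide), hks]
    · rfl
    rintro ⟨k, x⟩ hp ⟨k', x'⟩ hp' e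
    obtain ⟨hkm, hk, hx⟩ := hmemT hp
    obtain ⟨hkm', hk', hx'⟩ := hmemT hp'
    have e1 := (hsq hk hx).symm.trans (e ▸ hsq hk' hx')
    have e2 : k = k' := List.inj_on_of_nodup_map hksn hkm hkm'
      (h.inj _ (cj_lt hk const_lt.2.2.2.2.1) _ (cj_lt hk' const_lt.2.2.2.2.1) e1)
    subst e2
    have e3 : h.e x = h.e x' := by simpa [f] using e
    rw [h.inj _ (wl hx).1 _ (wl hx').1 e3]
  have hdis : Disjoint A (T.image f) := by
    rw [Finset.disjoint_left]
    rintro _ ha hb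
    obtain ⟨i, hi, rfl⟩ := Finset.mem_image.1 ha
    obtain ⟨⟨k, x⟩, hp, e⟩ := Finset.mem_image.1 hb
    obtain ⟨-, hk, hx⟩ := hmemT hp
    simp only [List.mem_toFinset, List.mem_filter, List.mem_range] at hi
    have e1 := hsq hk hx
    rw [e] at e1
    have h2 : h.e i * h.e i = 1 :=
      (Cfsg.Agent.Invol.orderOf_two_iff.1 (by
        obtain ⟨q, hq⟩ := isConj_iff.1 ((hz i hi.1).1 hi.2)
        rw [← hq, orderOf_conj_eq, h.ord_z] : orderOf (h.e i) = 2)).1
    have h3 : h.e zI * h.e i * (h.e zI * h.e i) = 1 := by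
      rw [mul_assoc, ← mul_assoc (h.e i), h.e_comm_z hi.1, mul_assoc (h.e zI) (h.e i), h2, mul_one, h.z_sq]
    rw [h3] at e1
    have e4 := (h.e_eq_one (cj_lt hk const_lt.2.2.2.2.1)).1 e1.symm
    have h5 : ((List.range 192).all fun k => !(cj k oI == 0)) = true := by decide +kernel
    simp only [List.all_eq_true, List.mem_range, Bool.not_eq_true', beq_eq_false_iff_ne] at h5
    exact h5 k hk e4
  have hle : A ∪ T.image f ⊆ Finset.univ.filter fun x => IsConj (h.e zI) x := by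
    intro y hy
    refine Finset.mem_filter.2 ⟨Finset.mem_univ _, ?_⟩
    rcases Finset.mem_union.1 hy with hy | hy
    · obtain ⟨i, hi, rfl⟩ := Finset.mem_image.1 hy
      simp only [List.mem_toFinset, List.mem_filter, List.mem_range] at hi
      exact (hz i hi.1).1 hi.2
    · obtain ⟨⟨k, x⟩, hp, rfl⟩ := Finset.mem_image.1 hy
      obtain ⟨-, hk, hx⟩ := hmemT hp
      obtain ⟨hxl, -, hxc⟩ := wl hx
      exact ((hz x hxl).1 (by simp [isZ, hxc])).trans ((isConj_iff.2 ⟨s, rfl⟩).trans (isConj_iff.2 ⟨h.e k, rfl⟩))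
  have := Finset.card_le_card hle
  rw [Finset.card_union_of_disjoint hdis, hA, hB', ← Fintype.card_subtype, ← Nat.card_eq_fintype_card, h63] at this
  omega

theorem card_K [Finite G] (hv : IsConj (h.e zI) (h.e vI)) (ho : IsConj (h.e zI) (h.e oI)) : Nat.card K = 60 :=
  (c.card_K_cases hv).resolve_left (c.small_false hv ho)

theorem simple_K [Finite G] (hv : IsConj (h.e zI) (h.e vI)) (ho : IsConj (h.e zI) (h.e oI)) : IsSimpleGroup K :=
  Cfsg.Agent.Invol.V4Order.simple_of_sixty (t := (⟨h.e zI, c.zK⟩ : K)) (by rw [← Subgroup.orderOf_coe]; exact h.ord_z)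
    c.card_C c.exp_two (c.one_class hv) (c.card_K hv ho)

end WCfg

end Cfsg.Agent.Invol.M12
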