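import Cfsg.Agent.Lib.Invol.M12.Order

/-! The complement of `w` in its centraliser is the symmetric group of degree five. -/

set_option autoImplicit false
set_option linter.unusedSectionVars false
set_option linter.style.haveILetI false

namespace Cfsg.Agent.Invol.M12

variable {G : Type*} [Group G]

/-- the conjugate of a subgroup -/
def conjS (c : G) (U : Subgroup G) : Subgroup G := U.map (MulAut.conj c).toMonoidHom

theorem mem_conjS {c x : G} {U : Subgroup G} : x ∈ conjS c U ↔ c⁻¹ * x * c ∈ U := by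
  constructor
  · rintro ⟨u, hu, rfl⟩
    simpa [mul_assoc] using hu
  · intro hx
    exact ⟨_, hx, by simp [mul_assoc]⟩

theorem conjS_mul (a b : G) (U : Subgroup G) : conjS (a * b) U = conjS a (conjS b U) := by
  ext x
  simp only [mem_conjS, mul_inv_rev, mul_assoc]

theorem conjS_one (U : Subgroup G) : conjS 1 U = U := by
  ext x
  simp [mem_conjS]

theorem conjS_eq [Finite G] {c : G} {U : Subgroup G} (h : ∀ x ∈ U, c * x * c⁻¹ ∈ U) : conjS c U = U :=
  Subgroup.eq_of_le_of_card_ge (by rintro _ ⟨u, hu, rfl⟩; exact h u hu)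
    (le_of_eq (Nat.card_congr (U.equivMapOfInjective _ (MulAut.conj c).injective).toEquiv))

theorem conjS_mem {c x : G} {U : Subgroup G} (h : conjS c U = U) (hx : x ∈ U) : c * x * c⁻¹ ∈ U := by
  have : c * x * c⁻¹ ∈ conjS c U := ⟨x, hx, rfl⟩
  rwa [h] at this

variable {h : Setting G} {g : G} {K : Subgroup G}

/-- The complement. -/
structure Comp (h : Setting G) (C1 : Subgroup G) (θ : C1 →* Equiv.Perm (Fin 5)) : Prop where
  bij : Function.Bijective θ
  le : C1 ≤ CW h
  w_not : h.e wI ∉ C1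
  split : ∀ x ∈ CW h, x ∈ C1 ∨ x * h.e wI ∈ C1
  img_z : ∃ hz : h.e zI ∈ C1, θ ⟨h.e zI, hz⟩ = Equiv.swap 1 2 * Equiv.swap 3 4
  img_v : ∃ hv : h.e vI ∈ C1, θ ⟨h.e vI, hv⟩ = Equiv.swap 1 3 * Equiv.swap 2 4
  img_b : ∃ hb : h.e bI ∈ C1, θ ⟨h.e bI, hb⟩ = Equiv.swap 1 2

theorem perm_ne : ((Equiv.swap 1 2 * Equiv.swap 3 4 : Equiv.Perm (Fin 5)) ≠ Equiv.swap 1 2) ∧
    ((Equiv.swap 1 3 * Equiv.swap 2 4 : Equiv.Perm (Fin 5)) ≠ Equiv.swap 1 2) ∧
    ((Equiv.swap 1 3 * Equiv.swap 2 4 * (Equiv.swap 1 2 * Equiv.swap 3 4) : Equiv.Perm (Fin 5)) ≠ Equiv.swap 1 2) ∧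
    ((1 : Equiv.Perm (Fin 5)) ≠ Equiv.swap 1 2) ∧
    ((Equiv.swap 1 2 * Equiv.swap 3 4 : Equiv.Perm (Fin 5)) ≠ 1) := by
  decide +kernel

theorem b_tbl : cj bI vI = vzI ∧ com bI zI = true ∧ com bI wI = true ∧ mL bI bI = 0 ∧ cj bI vzI = vI ∧
    iL bI = bI := by
  decide +kernel

namespace WCfg

variable (c : WCfg h g K)
include c

theorem bC : h.e bI ∈ CW h :=
  (mem_CW h).2 ((h.com_iff const_lt.2.2.2.2.2.1 const_lt.2.2.2.1).2 b_tbl.2.2.1)

theorem b_inv : (h.e bI)⁻¹ = h.e bI := by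
  rw [← h.e_inv const_lt.2.2.2.2.2.1, b_tbl.2.2.2.2.2]

theorem b_sq : h.e bI * h.e bI = 1 := by
  rw [← h.mul _ const_lt.2.2.2.2.2.1 _ const_lt.2.2.2.2.2.1, b_tbl.2.2.2.1, h.e_zero]

theorem b_conj_K {x : G} (hx : x ∈ K) : h.e bI * x * h.e bI ∈ K := by
  have := c.norm _ c.bC x hx
  rwa [c.b_inv] at this

/-- An element of `K` centralising a nontrivial element of the four-group lies in it. -/
theorem cent_V {a y : G} (ha : a ∈ VS h) (ha1 : a ≠ 1) (hy : y ∈ K) (hc : y * a = a * y) : y ∈ VS h := by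
  have back : ∀ {b y : G}, y ∈ K → y * (g * b * g⁻¹) = g * b * g⁻¹ * y →
      (∀ {y : G}, y ∈ K → y * b = b * y → y ∈ VS h) → y ∈ VS h := fun {b y} hy hc hb => by
    have := c.rot.V_conj (hb (mul_mem (mul_mem (inv_mem c.gK) hy) c.gK) (by
      calc g⁻¹ * y * g * b = g⁻¹ * (y * (g * b * g⁻¹)) * g := by group
        _ = b * (g⁻¹ * y * g) := by rw [hc]; group))
    rwa [show g * (g⁻¹ * y * g) * g⁻¹ = y by group] at this
  rcases (mem_VS h).1 ha with rfl | rfl | rfl | rfl
  · exact absurd rfl ha1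
  · exact c.cent_z hy hc
  · exact back hy (c.rot.gz.symm ▸ hc) c.cent_z
  · refine back hy (c.rot.gv.symm ▸ hc) fun {y} hy hc => back hy (c.rot.gz.symm ▸ hc) c.cent_z

/-- the extension of `K` by `b` -/
def C1 : Subgroup G where
  carrier := {x | x ∈ K ∨ x * h.e bI ∈ K}
  one_mem' := Or.inl K.one_mem
  mul_mem' := by
    intro x y hx hy
    rcases hx with hx | hx <;> rcases hy with hy | hy
    · exact Or.inl (mul_mem hx hy)
    · exact Or.inr (by rw [mul_assoc]; exact mul_mem hx hy)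
    · refine Or.inr ?_
      rw [show x * y * h.e bI = (x * h.e bI) * ((h.e bI)⁻¹ * y * h.e bI) by group, c.b_inv]
      exact mul_mem hx (c.b_conj_K hy)
    · refine Or.inl ?_
      rw [show x * y = (x * h.e bI) * ((h.e bI)⁻¹ * (y * h.e bI) * (h.e bI)⁻¹) by group, c.b_inv]
      exact mul_mem hx (c.b_conj_K hy)
  inv_mem' := by
    intro x hx
    rcases hx with hx | hx
    · exact Or.inl (inv_mem hx)
    · refine Or.inr ?_
      rw [show x⁻¹ * h.e bI = h.e bI * (x * h.e bI)⁻¹ * h.e bI from by rw [mul_inv_rev]; group; ]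
      exact c.b_conj_K (inv_mem hx)

theorem mem_C1 {x : G} : x ∈ c.C1 ↔ x ∈ K ∨ x * h.e bI ∈ K := Iff.rfl

theorem exists_comp [Finite G] (hv : IsConj (h.e zI) (h.e vI)) (ho : IsConj (h.e zI) (h.e oI)) :
    ∃ (C1 : Subgroup G) (θ : C1 →* Equiv.Perm (Fin 5)), Comp h C1 θ := by
  classical
  have h60 := c.card_K hv ho
  haveI hKs : IsSimpleGroup K := c.simple_K hv ho
  set V := VS h with hV
  have hVc : Nat.card V = 4 := card_listSub h VI _ _ _ qv_ok.2.2.2.2.2.1
  have hzV : h.e zI ∈ V := (mem_VS h).2 (Or.inr (Or.inl rfl))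
  have hvV : h.e vI ∈ V := (mem_VS h).2 (Or.inr (Or.inr (Or.inl rfl)))
  have hvzV : h.e vzI ∈ V := (mem_VS h).2 (Or.inr (Or.inr (Or.inr rfl)))
  have hVsq : ∀ x ∈ V, x * x = 1 := by
    rintro x ⟨i, hi, rfl⟩
    rw [← h.mul i (qv_ok.2.1 i hi) i (qv_ok.2.1 i hi), (by decide +kernel : ∀ i ∈ VI, mL i i = 0) i hi, h.e_zero]
  have hVcomm : ∀ x ∈ V, ∀ y ∈ V, x * y = y * x := fun x hx y hy => by
    have e := hVsq _ (mul_mem hx hy)
    rw [← inv_eq_of_mul_eq_one_right e, mul_inv_rev, inv_eq_of_mul_eq_one_right (hVsq x hx),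
      inv_eq_of_mul_eq_one_right (hVsq y hy)]
  -- the normaliser
  set N := Subgroup.normalizer (V : Set G) ⊓ K with hN
  have hVN : V ≤ N := le_inf Subgroup.le_normalizer c.VK
  have hnorm : ∀ {a : G}, a ∈ Subgroup.normalizer (V : Set G) ↔ conjS a V = V := fun {a} => by
    constructor
    · exact fun ha => conjS_eq fun y hy => (Subgroup.mem_normalizer_iff.1 ha y).1 hy
    · intro ha
      refine Subgroup.mem_normalizer_iff.2 fun y => ⟨conjS_mem ha, fun hy => ?_⟩
      have : a * y * a⁻¹ ∈ conjS a V := ha.symm ▸ hy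
      rw [mem_conjS] at this
      simpa [mul_assoc] using this
  have hgN : g ∈ N := Subgroup.mem_inf.2 ⟨hnorm.2 (conjS_eq fun y hy => c.rot.V_conj hy), c.gK⟩
  have hN12 : Nat.card N = 12 := by
    have hd1 : 4 ∣ Nat.card N := hVc ▸ Subgroup.card_dvd_of_le hVN
    have hd3 : 3 ∣ Nat.card N := by
      have hne : g ≠ 1 := fun e => by
        have := c.rot.gz
        rw [e, one_mul, inv_one, mul_one] at this
        exact absurd (h.inj _ const_lt.1 _ const_lt.2.1 this) (by decide)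
      haveI : Fact (Nat.Prime 3) := ⟨Nat.prime_three⟩
      have ho : orderOf g = 3 := orderOf_eq_prime (by rw [pow_succ, pow_two]; exact c.rot.g3) hne
      exact ho ▸ Subgroup.orderOf_dvd_natCard _ hgN
    have hd : Nat.card N ∣ 60 := h60 ▸ Subgroup.card_dvd_of_le inf_le_right
    have h12 : 12 ∣ Nat.card N := Nat.Coprime.mul_dvd_of_dvd_of_dvd (by norm_num : Nat.Coprime 4 3) hd1 hd3
    obtain ⟨q, hq⟩ := h12
    rw [hq] at hd ⊢
    have hq5 : q ∣ 5 := Nat.dvd_of_mul_dvd_mul_left (by norm_num : 0 < 12) (show 12 * q ∣ 12 * 5 from hd)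
    rcases (Nat.dvd_prime (by norm_num : Nat.Prime 5)).1 hq5 with e | e <;> subst e
    · rfl
    · exfalso
      have hKN : N = K := Subgroup.eq_of_le_of_card_ge inf_le_right (by rw [h60, hq])
      have hn : (V.subgroupOf K).Normal := ⟨fun x hx a => by
        rw [Subgroup.mem_subgroupOf] at hx ⊢
        have ha : (a : G) ∈ N := hKN.symm ▸ a.2
        have := conjS_mem (hnorm.1 (Subgroup.mem_inf.1 ha).1) hx
        simpa using this⟩
      rcases hn.eq_bot_or_eq_top with e | e
      · have := Nat.card_congr (Subgroup.subgroupOfEquivOfLe c.VK).toEquiv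
        rw [e, Subgroup.card_bot, hVc] at this; omega
      · have := Nat.card_congr (Subgroup.subgroupOfEquivOfLe c.VK).toEquiv
        rw [e, Subgroup.card_top, h60, hVc] at this; omega
  -- the five conjugates
  let X := {U : Subgroup G // ∃ k ∈ K, U = conjS k V}
  have hX5 : Nat.card X = 5 := by
    have hN' : Nat.card (N.subgroupOf K) = 12 :=
      (Nat.card_congr (Subgroup.subgroupOfEquivOfLe (inf_le_right : N ≤ K)).toEquiv).trans hN12
    have hrel : ∀ a b : K, conjS (a : G) V = conjS (b : G) V ↔ a⁻¹ * b ∈ N.subgroupOf K := fun a b => by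
      rw [Subgroup.mem_subgroupOf, hN, Subgroup.mem_inf, hnorm]
      simp only [Subgroup.coe_mul, Subgroup.coe_inv, conjS_mul]
      constructor
      · intro e; exact ⟨by rw [← e, ← conjS_mul, inv_mul_cancel, conjS_one], mul_mem (inv_mem a.2) b.2⟩
      · rintro ⟨e, -⟩
        have e2 := congrArg (conjS (a : G)) e
        rwa [← conjS_mul, mul_inv_cancel, conjS_one, eq_comm] at e2
    have hq : Nat.card (K ⧸ N.subgroupOf K) = Nat.card X := Nat.card_congr (Equiv.ofBijective
      (fun q => Quotient.liftOn' q (fun k : K => (⟨conjS (k : G) V, k, k.2, rfl⟩ : X))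
        (fun a b hab => Subtype.ext ((hrel a b).2 (QuotientGroup.leftRel_apply.1 hab))))
      ⟨by
        rintro ⟨a⟩ ⟨b⟩ e
        exact Quotient.sound' (QuotientGroup.leftRel_apply.2 ((hrel a b).1 (congrArg Subtype.val e))), by
        rintro ⟨U, k, hk, rfl⟩
        exact ⟨QuotientGroup.mk ⟨k, hk⟩, rfl⟩⟩)
    have := Subgroup.card_eq_card_quotient_mul_card_subgroup (N.subgroupOf K)
    rw [hq, hN', h60] at this
    omega
  -- the action
  have hbV : conjS (h.e bI) V = V := conjS_eq fun y hy => RW_norm_VS h ((mem_RW h).2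
    ⟨bI, qv_ok.2.2.2.2.2.2.2.2.2.2.2.1, rfl⟩) hy
  have hact : ∀ a ∈ c.C1, ∀ U : Subgroup G, (∃ k ∈ K, U = conjS k V) → ∃ k ∈ K, conjS a U = conjS k V := by
    rintro a ha _ ⟨k, hk, rfl⟩
    rcases ha with ha | ha
    · exact ⟨a * k, mul_mem ha hk, (conjS_mul _ _ _).symm⟩
    · refine ⟨a * h.e bI * (h.e bI * k * h.e bI), mul_mem ha (c.b_conj_K hk), ?_⟩
      rw [← conjS_mul, show a * h.e bI * (h.e bI * k * h.e bI) = a * (h.e bI * h.e bI) * k * h.e bI by group,
        c.b_sq, mul_one, conjS_mul (a * k) (h.e bI), hbV]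
  letI : MulAction c.C1 X :=
    { smul := fun a U => ⟨conjS (a : G) U.1, hact a a.2 U.1 U.2⟩
      one_smul := fun U => Subtype.ext (conjS_one U.1)
      mul_smul := fun a b U => Subtype.ext (conjS_mul (a : G) (b : G) U.1) }
  haveI : Finite X := Nat.finite_of_card_ne_zero (by rw [hX5]; norm_num)
  have hKC : ∀ {x : G}, x ∈ K → x ∈ c.C1 := fun hx => Or.inl hx
  let zc : c.C1 := ⟨h.e zI, hKC (c.VK hzV)⟩
  let vc : c.C1 := ⟨h.e vI, hKC (c.VK hvV)⟩
  let bc : c.C1 := ⟨h.e bI, Or.inr (by rw [c.b_sq]; exact one_mem _)⟩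
  let U0 : X := ⟨V, 1, one_mem _, (conjS_one V).symm⟩
  -- a nontrivial element of the four-group fixes only the four-group
  have hfree : ∀ a : c.C1, (a : G) ∈ V → (a : G) ≠ 1 → ∀ U : X, a • U = U → U = U0 := by
    rintro ⟨a, ha0⟩ haV ha1 ⟨U, k, hk, rfl⟩ e
    have e' : conjS a (conjS k V) = conjS k V := congrArg Subtype.val e
    have ha : k⁻¹ * a * k ∈ N := Subgroup.mem_inf.2 ⟨hnorm.2 (by
      rw [conjS_mul, conjS_mul, e', ← conjS_mul, inv_mul_cancel, conjS_one]),
      mul_mem (mul_mem (inv_mem hk) (c.VK haV)) hk⟩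
    haveI : Fact (Nat.Prime 2) := ⟨Nat.prime_two⟩
    have hx2 : k⁻¹ * a * k * (k⁻¹ * a * k) = 1 := by
      calc k⁻¹ * a * k * (k⁻¹ * a * k) = k⁻¹ * (a * a) * k := by group
        _ = 1 := by rw [hVsq a haV]; group
    -- it lies in `V`
    have hmem : k⁻¹ * a * k ∈ V := by
      set x := k⁻¹ * a * k with hx
      have hle : V ⊔ Subgroup.zpowers x ≤ N := sup_le hVN (by simpa using ha)
      have hp : IsPGroup 2 (V ⊔ Subgroup.zpowers x : Subgroup G) := by
        refine IsPGroup.to_sup_of_normal_left' (IsPGroup.of_card (n := 2) (by rw [hVc]; rfl)) ?_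
          (by simpa using (Subgroup.mem_inf.1 ha).1)
        refine fun y => ⟨1, Subtype.ext ?_⟩
        obtain ⟨n, hn⟩ := y.2
        simp only [pow_one, SubmonoidClass.coe_pow]
        rw [← hn, ← zpow_natCast, ← zpow_mul, mul_comm, zpow_mul, zpow_natCast, pow_two, hx2, one_zpow]
        rfl
      obtain ⟨n, hn⟩ := IsPGroup.iff_card.1 hp
      have hd : 2 ^ n ∣ 12 := hn ▸ hN12 ▸ Subgroup.card_dvd_of_le hle
      have hn2 : n ≤ 2 := by
        by_contra hlt
        have : 2 ^ 3 ∣ 12 := (pow_dvd_pow 2 (by omega : 3 ≤ n)).trans hd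
        norm_num at this
      rw [Subgroup.eq_of_le_of_card_ge (le_sup_left : V ≤ V ⊔ Subgroup.zpowers x) (by
        rw [hn, hVc]; exact (Nat.pow_le_pow_right (by norm_num) hn2).trans le_rfl)]
      exact le_sup_right (α := Subgroup G) (Subgroup.mem_zpowers x)
    have haU : a ∈ conjS k V := mem_conjS.2 hmem
    refine Subtype.ext (Subgroup.eq_of_le_of_card_ge (fun y hy => ?_)
      (le_of_eq (Nat.card_congr (V.equivMapOfInjective _ (MulAut.conj k).injective).toEquiv)))
    -- `U` centralises `a`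
    have hya : y * a = a * y := by
      rw [mem_conjS] at hy
      have := hVcomm _ hy _ hmem
      calc y * a = k * ((k⁻¹ * y * k) * (k⁻¹ * a * k)) * k⁻¹ := by group
        _ = a * y := by rw [this]; group
    have hyK : y ∈ K := by
      rw [mem_conjS] at hy
      have := mul_mem (mul_mem hk (c.VK hy)) (inv_mem hk)
      rwa [show k * (k⁻¹ * y * k) * k⁻¹ = y by group] at this
    exact c.cent_V haV ha1 hyK hya
  -- a point fixed by `b`
  have hbz : h.e bI * h.e zI = h.e zI * h.e bI := h.e_comm_z const_lt.2.2.2.2.2.1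
  have hbv : bc * vc * bc = vc * zc := Subtype.ext (by
    show h.e bI * h.e vI * h.e bI = h.e vI * h.e zI
    have := h.conj_e const_lt.2.2.2.2.2.1 const_lt.2.1
    rw [b_tbl.1, c.b_inv] at this
    rw [this, h.vz_eq.1])
  have hbb : bc * bc = 1 := Subtype.ext c.b_sq
  have hzz : zc * zc = 1 := Subtype.ext h.z_sq
  have hvv : vc * vc = 1 := Subtype.ext (hVsq _ hvV)
  have hzv : zc * vc = vc * zc := Subtype.ext (hVcomm _ hzV _ hvV)
  have hbzc : bc * zc = zc * bc := Subtype.ext hbz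
  have hbvc : bc * vc = vc * zc * bc := by
    calc bc * vc = bc * vc * (bc * bc) := by rw [hbb, mul_one]
      _ = bc * vc * bc * bc := by group
      _ = vc * zc * bc := by rw [hbv]
  have hzne : (zc : G) ≠ 1 := h.z_ne
  have hvne : (vc : G) ≠ 1 := fun e => absurd ((h.e_eq_one const_lt.2.1).1 e) (by decide)
  have hvzne : ((vc * zc : c.C1) : G) ≠ 1 := by
    show h.e vI * h.e zI ≠ 1
    rw [← h.vz_eq.1]; exact fun e => absurd ((h.e_eq_one const_lt.2.2.1).1 e) (by decide)
  have hfix0 : ∀ a : c.C1, conjS (a : G) V = V → a • U0 = U0 := fun a ha => Subtype.ext ha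
  have hz0 : zc • U0 = U0 := hfix0 _ (conjS_eq fun y hy => mul_mem (mul_mem hzV hy) (inv_mem hzV))
  have hv0 : vc • U0 = U0 := hfix0 _ (conjS_eq fun y hy => mul_mem (mul_mem hvV hy) (inv_mem hvV))
  have hb0 : bc • U0 = U0 := hfix0 _ hbV
  have hinj4 : ∀ P : X, P ≠ U0 → zc • P ≠ P ∧ vc • P ≠ P ∧ (vc * zc) • P ≠ P := fun P hP =>
    ⟨fun e => hP (hfree zc hzV hzne P e), fun e => hP (hfree vc hvV hvne P e),
      fun e => hP (hfree (vc * zc) (mul_mem hvV hzV) hvzne P e)⟩
  have hne0 : ∀ (a : c.C1) (P : X), a • U0 = U0 → P ≠ U0 → a • P ≠ U0 := fun a P ha hP e =>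
    hP (smul_left_cancel a (e.trans ha.symm))
  have hfive : ∀ P : X, P ≠ U0 → ∀ Q : X, Q = U0 ∨ Q = vc • P ∨ Q = (vc * zc) • P ∨ Q = P ∨ Q = zc • P := by
    intro P hP Q
    obtain ⟨a1, a2, a3⟩ := hinj4 P hP
    let f : Fin 5 → X := ![U0, vc • P, (vc * zc) • P, P, zc • P]
    have hf : Function.Injective f := by
      have h1 := hne0 vc P hv0 hP
      have h2 := hne0 (vc * zc) P (by rw [mul_smul, hz0, hv0]) hP
      have h3 := hne0 zc P hz0 hP
      have e12 : vc • P ≠ (vc * zc) • P := fun e => a1 (smul_left_cancel vc (e.trans (mul_smul _ _ _))).symm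
      have e14 : vc • P ≠ zc • P := fun e => a3 (by
        rw [← hzv, mul_smul, e, ← mul_smul, hzz, one_smul])
      have e24 : (vc * zc) • P ≠ zc • P := fun e => a2 (by
        have := congrArg (zc • ·) e
        simp only [← mul_smul] at this
        rwa [← mul_assoc, hzv, mul_assoc, hzz, mul_one, one_smul] at this)
      intro i j e
      fin_cases i <;> fin_cases j <;>
        simp only [f, Fin.zero_eta, Fin.mk_one, Fin.reduceFinMk, Matrix.cons_val_zero, Matrix.cons_val_one,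
          Matrix.cons_val, Fin.isValue] at e <;>
        first
          | rfl
          | exact absurd e (by first | exact h1 | exact h1.symm | exact h2 | exact h2.symm | exact h3 | exact h3.symm
                                     | exact hP | exact hP.symm | exact e12 | exact e12.symm | exact e14 | exact e14.symm
                                     | exact e24 | exact e24.symm | exact a1 | exact a1.symm | exact a2 | exact a2.symm
                                     | exact a3 | exact a3.symm)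
    obtain ⟨i, rfl⟩ := (Function.Injective.bijective_of_nat_card_le hf (by simp [hX5])).2 Q
    fin_cases i <;> simp [f]
  obtain ⟨P, hP, hbP⟩ : ∃ P : X, P ≠ U0 ∧ bc • P = P := by
    obtain ⟨P, hP⟩ : ∃ P : X, P ≠ U0 := by
      by_contra hc
      push Not at hc
      haveI : Subsingleton X := ⟨fun a b => (hc a).trans (hc b).symm⟩
      have := Finite.card_le_one_iff_subsingleton.2 (inferInstance : Subsingleton X)
      omega
    rcases hfive P hP (bc • P) with e | e | e | e | e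
    · exact absurd e (hne0 bc P hb0 hP)
    · exfalso
      have e2 := congrArg (bc • ·) e
      simp only [← mul_smul, hbb, one_smul, hbvc] at e2
      rw [mul_smul (vc * zc) bc, e, ← mul_smul, mul_assoc, hzv, ← mul_assoc, hvv, one_mul] at e2
      exact (hinj4 P hP).1 e2.symm
    · exfalso
      have e2 := congrArg (bc • ·) e
      have hb2 : bc * (vc * zc) = vc * bc := by
        rw [← mul_assoc, hbvc, mul_assoc (vc * zc), hbzc, ← mul_assoc, mul_assoc vc zc zc, hzz, mul_one]
      simp only [← mul_smul, hbb, one_smul, hb2] at e2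
      rw [mul_smul vc bc, e, ← mul_smul, ← mul_assoc, hvv, one_mul] at e2
      exact (hinj4 P hP).1 e2.symm
    · exact ⟨P, hP, e⟩
    · refine ⟨vc • P, hne0 vc P hv0 hP, ?_⟩
      rw [← mul_smul, hbvc, mul_smul, e, ← mul_smul, mul_assoc, hzz, mul_one]
  -- the isomorphism
  let f : Fin 5 → X := ![U0, vc • P, (vc * zc) • P, P, zc • P]
  have hf : Function.Bijective f := by
    have hsurj : Function.Surjective f := fun Q => by
      rcases hfive P hP Q with e | e | e | e | e
      exacts [⟨0, e.symm⟩, ⟨1, e.symm⟩, ⟨2, e.symm⟩, ⟨3, e.symm⟩, ⟨4, e.symm⟩]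
    exact hsurj.bijective_of_nat_card_le (by simp [hX5])
  let ι := Equiv.ofBijective f hf
  let θ : c.C1 →* Equiv.Perm (Fin 5) := ι.symm.permCongrHom.toMonoidHom.comp (MulAction.toPermHom c.C1 X)
  have hθ : ∀ (a : c.C1) (π : Equiv.Perm (Fin 5)), (∀ i, a • f i = f (π i)) → θ a = π := fun a π hh =>
    Equiv.ext fun i => ι.injective (by
      show ι (ι.symm (a • ι i)) = ι (π i)
      rw [Equiv.apply_symm_apply]
      exact hh i)
  have f0 : f 0 = U0 := rfl
  have f1 : f 1 = vc • P := rfl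
  have f2 : f 2 = (vc * zc) • P := rfl
  have f3 : f 3 = P := rfl
  have f4 : f 4 = zc • P := rfl
  have tz : θ zc = Equiv.swap 1 2 * Equiv.swap 3 4 := hθ _ _ fun i => by
    fin_cases i
    · show zc • f 0 = f 0; rw [f0, hz0]
    · show zc • f 1 = f 2; rw [f1, f2, ← mul_smul, hzv]
    · show zc • f 2 = f 1; rw [f1, f2, ← mul_smul, ← mul_assoc, hzv, mul_assoc, hzz, mul_one]
    · show zc • f 3 = f 4; rw [f3, f4]
    · show zc • f 4 = f 3; rw [f3, f4, ← mul_smul, hzz, one_smul]
  have tv : θ vc = Equiv.swap 1 3 * Equiv.swap 2 4 := hθ _ _ fun i => by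
    fin_cases i
    · show vc • f 0 = f 0; rw [f0, hv0]
    · show vc • f 1 = f 3; rw [f1, f3, ← mul_smul, hvv, one_smul]
    · show vc • f 2 = f 4; rw [f2, f4, ← mul_smul, ← mul_assoc, hvv, one_mul]
    · show vc • f 3 = f 1; rw [f1, f3]
    · show vc • f 4 = f 2; rw [f2, f4, ← mul_smul]
  have tb : θ bc = Equiv.swap 1 2 := hθ _ _ fun i => by
    fin_cases i
    · show bc • f 0 = f 0; rw [f0, hb0]
    · show bc • f 1 = f 2; rw [f1, f2, ← mul_smul, hbvc, mul_smul, hbP]
    · show bc • f 2 = f 1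
      rw [f1, f2, ← mul_smul, ← mul_assoc, hbvc, mul_assoc (vc * zc), hbzc, ← mul_assoc, mul_assoc vc, hzz, mul_one,
        mul_smul, hbP]
    · show bc • f 3 = f 3; rw [f3, hbP]
    · show bc • f 4 = f 4; rw [f4, ← mul_smul, hbzc, mul_smul, hbP]
  obtain ⟨p1, p2, p3, p4, p5⟩ := perm_ne
  have hKer : ∀ x ∈ θ.ker, ((x : c.C1) : G) ∈ K → x = 1 := by
    intro x hx hxK
    have hn : (θ.ker.comap (Subgroup.inclusion (fun a ha => hKC ha : K ≤ c.C1))).Normal := inferInstance
    rcases hn.eq_bot_or_eq_top with e | e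
    · have hxm : (⟨_, hxK⟩ : K) ∈ θ.ker.comap (Subgroup.inclusion (fun a ha => hKC ha : K ≤ c.C1)) := hx
      rw [e, Subgroup.mem_bot] at hxm
      exact Subtype.ext (congrArg (fun t : K => (t : G)) hxm)
    · have hzm : (⟨_, c.VK hzV⟩ : K) ∈ θ.ker.comap (Subgroup.inclusion (fun a ha => hKC ha : K ≤ c.C1)) :=
        e ▸ Subgroup.mem_top _
      have : θ zc = 1 := hzm
      exact absurd (tz.symm.trans this) p5
  have hinj : Function.Injective θ := (injective_iff_map_eq_one θ).2 fun x hx => by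
    by_cases hxK : (x : G) ∈ K
    · exact hKer x hx hxK
    exfalso
    have hxb : (x : G) * h.e bI ∈ K := x.2.resolve_left hxK
    have hcz : x * zc = zc * x := by
      have hk := hKer (x * zc * x⁻¹ * zc⁻¹) (by simp [MonoidHom.mem_ker, map_mul, hx]) (by
        show (x : G) * h.e zI * (x : G)⁻¹ * (h.e zI)⁻¹ ∈ K
        have h1 := c.norm (h.e bI) c.bC _ (c.VK hzV)
        have h2 : (x : G) * h.e zI * (x : G)⁻¹ = (x * h.e bI) * (h.e bI * h.e zI * (h.e bI)⁻¹) * (x * h.e bI)⁻¹ := by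
          rw [show (x : G) * h.e bI * (h.e bI * h.e zI * (h.e bI)⁻¹) * ((x : G) * h.e bI)⁻¹
              = x * (h.e bI * h.e bI) * h.e zI * (h.e bI * h.e bI)⁻¹ * (x : G)⁻¹ by group, c.b_sq]
          group
        rw [h2]
        exact mul_mem (mul_mem (mul_mem hxb h1) (inv_mem hxb)) (inv_mem (c.VK hzV)))
      rwa [mul_inv_eq_one, mul_inv_eq_iff_eq_mul] at hk
    have hxz : (x : G) * h.e bI * h.e zI = h.e zI * ((x : G) * h.e bI) := by
      rw [mul_assoc, hbz, ← mul_assoc, show (x : G) * h.e zI = h.e zI * x from congrArg Subtype.val hcz, mul_assoc]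
    have hmem := c.cent_z hxb hxz
    have hx' : θ (⟨(x : G) * h.e bI, hKC hxb⟩ : c.C1) = Equiv.swap 1 2 := by
      rw [show (⟨(x : G) * h.e bI, hKC hxb⟩ : c.C1) = x * bc from Subtype.ext rfl, map_mul, hx, one_mul, tb]
    rcases (mem_VS h).1 hmem with e | e | e | e
    · rw [show (⟨(x : G) * h.e bI, hKC hxb⟩ : c.C1) = 1 from Subtype.ext e, map_one] at hx'
      exact p4 hx'
    · rw [show (⟨(x : G) * h.e bI, hKC hxb⟩ : c.C1) = zc from Subtype.ext e, tz] at hx'
      exact p1 hx'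
    · rw [show (⟨(x : G) * h.e bI, hKC hxb⟩ : c.C1) = vc from Subtype.ext e, tv] at hx'
      exact p2 hx'
    · rw [show (⟨(x : G) * h.e bI, hKC hxb⟩ : c.C1) = vc * zc from Subtype.ext (e.trans h.vz_eq.1), map_mul, tv, tz] at hx'
      exact p3 hx'
  -- the order
  have h120 : Nat.card c.C1 = 120 := by
    have hb : h.e bI ∈ c.C1 := bc.2
    have hH : Half c.C1 K (h.e bI) := ⟨fun x hx => hKC hx, fun x hx y hy => by
      refine c.norm x ?_ y hy
      rcases hx with hx | hx
      · exact c.le hx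
      · have := mul_mem (c.le hx) (inv_mem c.bC)
        rwa [mul_inv_cancel_right] at this, hb, c.bK, fun x hx y hy => by
      constructor
      · intro hxy
        exact ⟨fun hx' => (Subgroup.mul_mem_cancel_left K hx').1 hxy,
          fun hy' => (Subgroup.mul_mem_cancel_right K hy').1 hxy⟩
      · intro hiff
        by_cases hx' : x ∈ K
        · exact mul_mem hx' (hiff.1 hx')
        · have hy' : y ∉ K := fun e => hx' (hiff.2 e)
          have e := mul_mem (hx.resolve_left hx') (c.b_conj_K (hy.resolve_left hy'))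
          rwa [show x * h.e bI * (h.e bI * (y * h.e bI) * h.e bI) = x * (h.e bI * h.e bI) * y * (h.e bI * h.e bI) by group,
            c.b_sq, mul_one, mul_one] at e⟩
    rw [hH.card_top, h60]
  have hbij : Function.Bijective θ :=
    Function.Injective.bijective_of_nat_card_le hinj (by rw [h120, Nat.card_perm, Nat.card_fin]; rfl)
  have hwnot : h.e wI ∉ c.C1 := by
    rintro (e | e)
    · have := c.cap _ e ((mem_RW h).2 ⟨wI, qv_ok.2.2.2.2.2.2.2.2.2.2.2.2.2.1, rfl⟩)
      obtain ⟨i, hi, hie⟩ := this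
      exact (by decide : wI ∉ VI) (h.inj i (qv_ok.2.1 i hi) _ const_lt.2.2.2.1 hie ▸ hi)
    · apply c.bwK
      rw [(mem_CW h).1 c.bC |>.symm] at e
      rwa [← h.mul _ const_lt.2.2.2.2.2.1 _ const_lt.2.2.2.1, show mL bI wI = bwI2 from
        consts_ok.2.2.2.2.2.2.2.2.2.2.2.2.2.2.1] at e
  have hle : c.C1 ≤ CW h := by
    rintro x (hx | hx)
    · exact c.le hx
    · have := mul_mem (c.le hx) (inv_mem c.bC)
      rwa [mul_inv_cancel_right] at this
  refine ⟨c.C1, θ, hbij, hle, hwnot, ?_, ⟨zc.2, tz⟩, ⟨vc.2, tv⟩, ⟨bc.2, tb⟩⟩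
  intro x hx
  by_cases hxC : x ∈ c.C1
  · exact Or.inl hxC
  refine Or.inr ?_
  have hwC : h.e wI ∈ CW h := (mem_CW h).2 rfl
  have hidx : (c.C1.subgroupOf (CW h)).index = 2 := by
    have := (c.C1.subgroupOf (CW h)).card_mul_index
    rw [Nat.card_congr (Subgroup.subgroupOfEquivOfLe hle).toEquiv, h120, c.card_CW, h60] at this
    omega
  have := (Subgroup.mul_mem_iff_of_index_two hidx (a := ⟨x, hx⟩) (b := ⟨h.e wI, hwC⟩)).2
    (by simp only [Subgroup.mem_subgroupOf]; exact ⟨fun e => absurd e hxC, fun e => absurd e hwnot⟩)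
  simpa [Subgroup.mem_subgroupOf] using this

end WCfg

end Cfsg.Agent.Invol.M12
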